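/-
Products of conjugates of prescribed matrices: classes, lists, spanning factorisations.
-/
import Cfsg.Agent.H60.Ore.Sim

set_option autoImplicit false
set_option linter.unusedSectionVars false

namespace Cfsg.Agent.Linear.Lev

open Matrix

variable {F : Type*} [Field F]
variable {ι κ : Type} [Fintype ι] [DecidableEq ι] [Fintype κ] [DecidableEq κ]

/-- Conjugate by a matrix of determinant one. -/
def Conj (x y : Matrix ι ι F) : Prop := ∃ g : Matrix ι ι F, g.det = 1 ∧ g * x = y * g

/-- Conjugate by an invertible matrix. -/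
def ConjG (x y : Matrix ι ι F) : Prop := ∃ g : Matrix ι ι F, g.det ≠ 0 ∧ g * x = y * g

theorem Conj.toG {x y : Matrix ι ι F} (h : Conj x y) : ConjG x y :=
  let ⟨g, hg, hgx⟩ := h
  ⟨g, hg ▸ one_ne_zero, hgx⟩

theorem Conj.refl (x : Matrix ι ι F) : Conj x x := ⟨1, det_one, by simp⟩

theorem Conj.trans {x y z : Matrix ι ι F} (h : Conj x y) (h' : Conj y z) : Conj x z := by
  obtain ⟨g, hg, hgx⟩ := h
  obtain ⟨k, hk, hky⟩ := h'
  exact ⟨k * g, by rw [det_mul, hk, hg, one_mul],
    by rw [Matrix.mul_assoc, hgx, ← Matrix.mul_assoc, hky, Matrix.mul_assoc]⟩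

theorem ConjG.trans {x y z : Matrix ι ι F} (h : ConjG x y) (h' : ConjG y z) : ConjG x z := by
  obtain ⟨g, hg, hgx⟩ := h
  obtain ⟨k, hk, hky⟩ := h'
  exact ⟨k * g, by rw [det_mul]; exact mul_ne_zero hk hg,
    by rw [Matrix.mul_assoc, hgx, ← Matrix.mul_assoc, hky, Matrix.mul_assoc]⟩

theorem Conj.symm {x y : Matrix ι ι F} (h : Conj x y) : Conj y x := by
  obtain ⟨g, hg, hgx⟩ := h
  have hu : IsUnit g.det := by rw [hg]; exact isUnit_one
  refine ⟨g⁻¹, by rw [det_nonsing_inv, hg, Ring.inverse_one], ?_⟩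
  calc g⁻¹ * y = g⁻¹ * (y * g) * g⁻¹ := by
        rw [Matrix.mul_assoc, Matrix.mul_assoc, Matrix.mul_nonsing_inv _ hu, Matrix.mul_one]
    _ = g⁻¹ * (g * x) * g⁻¹ := by rw [hgx]
    _ = x * g⁻¹ := by rw [← Matrix.mul_assoc g⁻¹, Matrix.nonsing_inv_mul _ hu, Matrix.one_mul]

theorem ConjG.det_eq {x y : Matrix ι ι F} (h : ConjG x y) : x.det = y.det := by
  obtain ⟨g, hg, hgx⟩ := h
  have := congrArg Matrix.det hgx
  rw [det_mul, det_mul, mul_comm y.det] at this
  exact mul_left_cancel₀ hg this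

/-- Conjugation of `x` by `g`, the inverse given explicitly. -/
theorem conj_mk {g g' x : Matrix ι ι F} (h : g' * g = 1) (hd : g.det = 1) :
    Conj x (g * x * g') :=
  ⟨g, hd, by rw [Matrix.mul_assoc (g * x), h, Matrix.mul_one]⟩

theorem Conj.of_conjG {x y : Matrix ι ι F} (hx : Cfsg.Agent.H60.Ore.CFull x) (h : ConjG x y) :
    Conj x y := by
  obtain ⟨g, hg, hgx⟩ := h
  obtain ⟨c, hc, hcd⟩ := hx g.det⁻¹ (inv_ne_zero hg)
  refine ⟨g * c, by rw [det_mul, hcd, mul_inv_cancel₀ hg], ?_⟩
  rw [Matrix.mul_assoc, hc, ← Matrix.mul_assoc, hgx, Matrix.mul_assoc]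

/-- A scalar matrix. -/
def IsSc (x : Matrix ι ι F) : Prop := ∃ c : F, x = c • 1

theorem isSc_of_forall_mulVec {x : Matrix ι ι F} (h : ∀ v : ι → F, ∃ c : F, x *ᵥ v = c • v) :
    IsSc x := by
  rcases isEmpty_or_nonempty ι with hi | ⟨⟨i₀⟩⟩
  · exact ⟨1, Subsingleton.elim _ _⟩
  choose c hc using h
  have hoff : ∀ i j, i ≠ j → x i j = 0 := fun i j hij => by
    have := congrFun (hc (Pi.single j 1)) i
    simpa [Matrix.mulVec_single, hij] using this
  refine ⟨x i₀ i₀, ?_⟩
  ext i j
  by_cases hij : i = j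
  · subst hij
    rw [Matrix.smul_apply, Matrix.one_apply_eq, smul_eq_mul, mul_one]
    by_cases h0 : i = i₀
    · rw [h0]
    have := hc (Pi.single i 1 + Pi.single i₀ 1)
    have h1 := congrFun this i
    have h2 := congrFun this i₀
    simp [Matrix.mulVec_add, Matrix.mulVec_single, hoff i i₀ h0, hoff i₀ i (Ne.symm h0), h0,
      Ne.symm h0] at h1 h2
    rw [h1, h2]
  · rw [hoff i j hij, Matrix.smul_apply, Matrix.one_apply_ne hij, smul_zero]

theorem exists_indep {x : Matrix ι ι F} (h : ¬IsSc x) :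
    ∃ v : ι → F, LinearIndependent F ![v, x *ᵥ v] := by
  by_contra hne
  push Not at hne
  refine h (isSc_of_forall_mulVec fun v => ?_)
  by_cases hv : v = 0
  · exact ⟨0, by simp [hv]⟩
  have h2 := hne v
  rw [LinearIndependent.pair_iff' hv] at h2
  push Not at h2
  obtain ⟨a, ha⟩ := h2
  exact ⟨a, ha.symm⟩

/-- The factors `ys` lie in the classes of the list `L`. -/
def Facs (R : Matrix ι ι F → Matrix ι ι F → Prop) (L : List (Matrix ι ι F × F))
    (ys : List (Matrix ι ι F)) : Prop :=
  List.Forall₂ (fun p y => R p.1 y) L ys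

/-- A vector fixed by all the factors with the prescribed eigenvalues. -/
def Fixed (f : ι → F) (L : List (Matrix ι ι F × F)) (ys : List (Matrix ι ι F)) : Prop :=
  List.Forall₂ (fun p y => y *ᵥ f = p.2 • f) L ys

/-- The product of the determinants. -/
def dets (L : List (Matrix ι ι F × F)) : F := (L.map fun p => p.1.det).prod

/-- Every admissible non-scalar matrix has a spanning factorisation into the classes of `L`. -/
def Cov (R : Matrix ι ι F → Matrix ι ι F → Prop) (L : List (Matrix ι ι F × F)) : Prop :=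
  ∀ h : Matrix ι ι F, ¬IsSc h → h.det = dets L →
    ∃ ys, Facs R L ys ∧ ys.prod = h ∧ ∀ f, Fixed f L ys → f = 0

theorem Cov.toG {L : List (Matrix ι ι F × F)} (h : Cov Conj L) : Cov ConjG L := fun g hg hd =>
  let ⟨ys, h1, h2, h3⟩ := h g hg hd
  ⟨ys, List.Forall₂.imp (fun _ _ => Conj.toG) h1, h2, h3⟩

theorem facs_prod_det {L : List (Matrix ι ι F × F)} {ys : List (Matrix ι ι F)}
    (h : Facs ConjG L ys) : ys.prod.det = dets L := by
  induction h with
  | nil => simp [dets]
  | cons h _ ih =>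
    rw [List.prod_cons, det_mul, ih, ← ConjG.det_eq h]
    simp [dets]

theorem fixed_prod {L : List (Matrix ι ι F × F)} {ys : List (Matrix ι ι F)} {f : ι → F}
    (h : Fixed f L ys) : ys.prod *ᵥ f = (L.map Prod.snd).prod • f := by
  induction h with
  | nil => simp
  | cons h _ ih =>
    rw [List.prod_cons, ← Matrix.mulVec_mulVec, ih, Matrix.mulVec_smul, h, smul_smul,
      List.map_cons, List.prod_cons, mul_comm]

theorem conjG_conj {x y g g' : Matrix ι ι F} (h : ConjG x y) (hg : g' * g = 1) :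
    ConjG x (g * y * g') := by
  refine h.trans ⟨g, fun h0 => ?_, by rw [Matrix.mul_assoc (g * y), hg, Matrix.mul_one]⟩
  have := congrArg Matrix.det hg
  rw [det_mul, h0, mul_zero, det_one] at this
  exact zero_ne_one this

theorem conj_conj {x y g g' : Matrix ι ι F} (h : Conj x y) (hg : g' * g = 1) (hd : g.det = 1) :
    Conj x (g * y * g') :=
  h.trans (conj_mk hg hd)

theorem forall₂_split {α β : Type*} {R : α → β → Prop} : ∀ {l₁ l₂ : List α} {ys : List β},
    List.Forall₂ R (l₁ ++ l₂) ys →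
      ∃ y₁ y₂, List.Forall₂ R l₁ y₁ ∧ List.Forall₂ R l₂ y₂ ∧ ys = y₁ ++ y₂
  | [], _, ys, h => ⟨[], ys, List.Forall₂.nil, h, rfl⟩
  | _ :: _, _, _, List.Forall₂.cons h t => by
    obtain ⟨y₁, y₂, h1, h2, rfl⟩ := forall₂_split t
    exact ⟨_ :: y₁, y₂, List.Forall₂.cons h h1, h2, rfl⟩

/-- Reordering the classes of a covering list. -/
theorem Cov.perm_swap {L₁ L₂ : List (Matrix ι ι F × F)} {a b : Matrix ι ι F × F}
    (ha : IsUnit a.1.det) (hb : IsUnit b.1.det)
    (h : Cov ConjG (L₁ ++ a :: b :: L₂)) : Cov ConjG (L₁ ++ b :: a :: L₂) := by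
  intro g hg hd
  have hd' : g.det = dets (L₁ ++ a :: b :: L₂) := by
    rw [hd]; simp only [dets, List.map_append, List.map_cons, List.prod_append, List.prod_cons]
    ring
  obtain ⟨ys, h1, h2, h3⟩ := h g hg hd'
  obtain ⟨y₁, r, hy₁, hr, rfl⟩ := forall₂_split h1
  cases hr with
  | cons hya hr =>
    rename_i ya _
    cases hr with
    | cons hyb hr =>
      rename_i yb y₂
      have hu : IsUnit ya.det := (ConjG.det_eq hya) ▸ ha
      have hinv := Matrix.mul_nonsing_inv ya hu
      have hinv' := Matrix.nonsing_inv_mul ya hu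
      refine ⟨y₁ ++ (ya * yb * ya⁻¹) :: ya :: y₂, ?_, ?_, fun f hf => h3 f ?_⟩
      · exact List.rel_append hy₁ (List.Forall₂.cons (conjG_conj hyb hinv')
          (List.Forall₂.cons hya hr))
      · rw [← h2]
        simp only [List.prod_append, List.prod_cons, Matrix.mul_assoc]
        rw [← Matrix.mul_assoc ya⁻¹ ya, hinv', Matrix.one_mul]
      · have hlen : L₁.length = y₁.length := List.Forall₂.length_eq hy₁
        obtain ⟨A, B, hA, hB, he⟩ := forall₂_split hf
        obtain ⟨rfl, rfl⟩ := List.append_inj he.symm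
          ((List.Forall₂.length_eq hA).symm.trans hlen)
        cases hB with
        | cons e1 hB =>
          cases hB with
          | cons e2 hB =>
            refine List.rel_append hA (List.Forall₂.cons e2 (List.Forall₂.cons ?_ hB))
            by_cases hf0 : f = 0
            · simp [hf0]
            have hne : a.2 ≠ 0 := fun h0 => by
              rw [h0, zero_smul] at e2
              exact hf0 (by
                simpa [Matrix.mulVec_mulVec, hinv'] using congrArg (ya⁻¹ *ᵥ ·) e2)
            have hi : ya⁻¹ *ᵥ f = a.2⁻¹ • f := by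
              have := congrArg (fun w => a.2⁻¹ • (ya⁻¹ *ᵥ w)) e2
              simp only [Matrix.mulVec_mulVec, hinv', Matrix.one_mulVec, Matrix.mulVec_smul,
                smul_smul, inv_mul_cancel₀ hne, one_smul] at this
              exact this.symm
            rw [Matrix.mul_assoc, ← Matrix.mulVec_mulVec, ← Matrix.mulVec_mulVec, hi,
              Matrix.mulVec_smul, Matrix.mulVec_smul] at e1
            have e3 : ya *ᵥ (yb *ᵥ f) = ya *ᵥ (b.2 • f) := by
              rw [Matrix.mulVec_smul, e2, smul_comm b.2 a.2, ← e1, smul_smul,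
                mul_inv_cancel₀ hne, one_smul]
            simpa [Matrix.mulVec_mulVec, ← Matrix.mul_assoc, hinv'] using congrArg (ya⁻¹ *ᵥ ·) e3

theorem Cov.perm {L L' : List (Matrix ι ι F × F)} (hp : L.Perm L')
    (hu : ∀ p ∈ L, IsUnit p.1.det) (h : Cov ConjG L) : Cov ConjG L' := by
  suffices ∀ P : List (Matrix ι ι F × F), Cov ConjG (P ++ L) → Cov ConjG (P ++ L') from this [] h
  clear h
  induction hp with
  | nil => exact fun _ => id
  | cons a _ ih =>
    intro P h
    have := ih (fun p hp => hu p (List.mem_cons_of_mem _ hp)) (P ++ [a]) (by simpa using h)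
    simpa using this
  | swap a b l =>
    exact fun P h => Cov.perm_swap (hu b (by simp)) (hu a (by simp)) h
  | trans p _ ih1 ih2 =>
    exact fun P h => ih2 (fun x hx => hu x (p.mem_iff.2 hx)) P (ih1 hu P h)

end Cfsg.Agent.Linear.Lev
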