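/-
Changing the last column of an unreduced Hessenberg matrix.
-/
import Cfsg.Agent.H60.Ore.Tail

set_option autoImplicit false
set_option linter.unusedSectionVars false

namespace Cfsg.Agent.Linear.Lev

open Matrix Polynomial Cfsg.Agent.H60.Ore

variable {F : Type*} [Field F] {m : ℕ}

/-- The column operation adding `c` to the last column of the identity. -/
def colT (c : Fin (m + 1) → F) : Matrix (Fin (m + 1)) (Fin (m + 1)) F :=
  1 + vecMulVec c (Pi.single (Fin.last m) 1)

/-- Adding `u` to the last column. -/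
def addLast (M : Matrix (Fin (m + 1)) (Fin (m + 1)) F) (u : Fin (m + 1) → F) :
    Matrix (Fin (m + 1)) (Fin (m + 1)) F :=
  M + vecMulVec u (Pi.single (Fin.last m) 1)

theorem addLast_apply (M : Matrix (Fin (m + 1)) (Fin (m + 1)) F) (u : Fin (m + 1) → F) (i j) :
    addLast M u i j = M i j + if j = Fin.last m then u i else 0 := by
  simp [addLast, vecMulVec_apply, Pi.single_apply]

theorem hess_addLast {M : Matrix (Fin (m + 1)) (Fin (m + 1)) F} (hM : Hess M)
    (u : Fin (m + 1) → F) : Hess (addLast M u) := by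
  refine ⟨fun i j h => ?_, fun i j h => ?_⟩ <;>
    rw [addLast_apply, if_neg (fun e => by subst e; simp at h; omega), add_zero]
  · exact hM.1 i j h
  · exact hM.2 i j h

theorem mul_colT (M : Matrix (Fin (m + 1)) (Fin (m + 1)) F) (c : Fin (m + 1) → F) :
    M * colT c = addLast M (M *ᵥ c) := by
  rw [colT, addLast, Matrix.mul_add, Matrix.mul_one, Matrix.mul_vecMulVec]

theorem colT_mulVec (c v : Fin (m + 1) → F) :
    colT c *ᵥ v = v + v (Fin.last m) • c := by
  rw [colT, Matrix.add_mulVec, Matrix.one_mulVec, Matrix.vecMulVec_mulVec]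
  simp

theorem det_colT (c : Fin (m + 1) → F) : (colT c).det = 1 + c (Fin.last m) := by
  rw [colT, Matrix.vecMulVec_eq Unit, Matrix.det_one_add_replicateCol_mul_replicateRow]
  simp

theorem colT_inv {c : Fin (m + 1) → F} (hc : c (Fin.last m) = 0) :
    colT c * colT (-c) = 1 ∧ colT (-c) * colT c = 1 := by
  constructor <;>
  · refine Matrix.ext_iff_mulVec.2 fun v => ?_
    simp [← Matrix.mulVec_mulVec, colT_mulVec, hc]

theorem sim_colT {M : Matrix (Fin (m + 1)) (Fin (m + 1)) F} {c : Fin (m + 1) → F}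
    (hc : c (Fin.last m) = 0) : Sim (colT c * M) (M * colT c) :=
  ⟨colT c, colT (-c), (colT_inv hc).1, (colT_inv hc).2, by rw [Matrix.mul_assoc]⟩

/-- The powers of a Hessenberg matrix do not see the last column too early. -/
theorem pow_addLast {M : Matrix (Fin (m + 1)) (Fin (m + 1)) F} (hM : Hess M)
    (u : Fin (m + 1) → F) : ∀ k, k ≤ m →
      (addLast M u ^ k) *ᵥ Pi.single (0 : Fin (m + 1)) 1 = (M ^ k) *ᵥ Pi.single 0 1 := by
  intro k
  induction k with
  | zero => simp
  | succ k ih =>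
    intro hk
    rw [pow_succ', ← mulVec_mulVec, ih (by omega), pow_succ' M, ← mulVec_mulVec, addLast,
      Matrix.add_mulVec, Matrix.vecMulVec_mulVec]
    have h0 := (hM.pow_apply (Nat.succ_pos m) k).1 (Fin.last m) (by simp; omega)
    have h1 : (M ^ k *ᵥ Pi.single (0 : Fin (m + 1)) 1) (Fin.last m) = 0 := h0
    rw [single_one_dotProduct, h1]; simp

/-- The top coefficient of the cyclic chain. -/
noncomputable def topC (M : Matrix (Fin (m + 1)) (Fin (m + 1)) F) : F :=
  ((M ^ m) *ᵥ Pi.single (0 : Fin (m + 1)) 1) (Fin.last m)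

theorem topC_ne {M : Matrix (Fin (m + 1)) (Fin (m + 1)) F} (hM : Hess M) : topC M ≠ 0 :=
  (hM.pow_apply (Nat.succ_pos m) m).2 (Fin.last m) (by simp)

theorem aeval_addLast {M : Matrix (Fin (m + 1)) (Fin (m + 1)) F} (hM : Hess M)
    (u : Fin (m + 1) → F) {f : F[X]} (hf : f.natDegree ≤ m + 1) :
    aeval (addLast M u) f *ᵥ Pi.single (0 : Fin (m + 1)) 1 =
      aeval M f *ᵥ Pi.single 0 1 + (f.coeff (m + 1) * topC M) • u := by
  have hp := pow_addLast hM u
  rw [aeval_eq_sum_range' (Nat.lt_succ_of_le hf), aeval_eq_sum_range' (Nat.lt_succ_of_le hf),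
    Finset.sum_range_succ _ (m + 1), Finset.sum_range_succ _ (m + 1)]
  simp only [Matrix.add_mulVec, Matrix.sum_mulVec, Matrix.smul_mulVec]
  rw [add_assoc]
  congr 1
  · exact Finset.sum_congr rfl fun k hk => by
      rw [hp k (by simp at hk; omega)]
  · rw [mul_smul, ← smul_add]
    congr 1
    rw [pow_succ', ← mulVec_mulVec, hp m le_rfl, pow_succ' M, ← mulVec_mulVec, addLast,
      Matrix.add_mulVec, Matrix.vecMulVec_mulVec]
    simp [topC]

/-- The effect of the last column on the characteristic polynomial. -/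
theorem charpoly_addLast {M : Matrix (Fin (m + 1)) (Fin (m + 1)) F} (hM : Hess M)
    {u : Fin (m + 1) → F} {U : F[X]} (hU : U.degree < ((m + 1 : ℕ) : WithBot ℕ))
    (hu : aeval M U *ᵥ Pi.single (0 : Fin (m + 1)) 1 = u) :
    (addLast M u).charpoly = M.charpoly - C (topC M) * U := by
  have hd : M.charpoly.natDegree = m + 1 := by rw [charpoly_natDegree_eq_dim, Fintype.card_fin]
  have hdeg : (C (topC M) * U).degree < M.charpoly.degree := by
    refine lt_of_le_of_lt ?_ (lt_of_lt_of_eq hU ?_)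
    · rw [C_mul']; exact degree_smul_le _ _
    · rw [degree_eq_natDegree (charpoly_monic M).ne_zero, hd]
  have hm : (M.charpoly - C (topC M) * U).Monic := (charpoly_monic M).sub_of_left hdeg
  have hdd : (M.charpoly - C (topC M) * U).natDegree = m + 1 := by
    rw [natDegree_eq_of_degree_eq (degree_sub_eq_left_of_degree_lt hdeg), hd]
  refine (hess_addLast hM u).charpoly_eq (Nat.succ_pos m) hm hdd ?_
  show aeval (addLast M u) _ *ᵥ Pi.single (0 : Fin (m + 1)) 1 = 0
  rw [aeval_addLast hM u hdd.le, map_sub, map_mul, aeval_C, aeval_self_charpoly, zero_sub,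
    Matrix.neg_mulVec, ← Algebra.smul_def, Matrix.smul_mulVec, hu]
  have hc1 : (M.charpoly - C (topC M) * U).coeff (m + 1) = 1 := by
    have := hm.coeff_natDegree; rwa [hdd] at this
  rw [hc1, one_mul, neg_add_cancel]

/-- Any monic polynomial of the right degree is reached by the last column. -/
theorem exists_addLast {M : Matrix (Fin (m + 1)) (Fin (m + 1)) F} (hM : Hess M) {f : F[X]}
    (hf : f.Monic) (hd : f.natDegree = m + 1) :
    ∃ u : Fin (m + 1) → F, (addLast M u).charpoly = f := by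
  set w := aeval M f *ᵥ Pi.single (0 : Fin (m + 1)) 1 with hw
  refine ⟨-(topC M)⁻¹ • w, (hess_addLast hM _).charpoly_eq (Nat.succ_pos m) hf hd ?_⟩
  show aeval (addLast M _) f *ᵥ Pi.single (0 : Fin (m + 1)) 1 = 0
  have hc1 : f.coeff (m + 1) = 1 := hd ▸ hf.coeff_natDegree
  rw [aeval_addLast hM _ hd.le, ← hw, hc1, one_mul, smul_smul, mul_neg,
    mul_inv_cancel₀ (topC_ne hM), neg_one_smul, add_neg_cancel]

theorem det_eq_coeff {n : ℕ} (M : Matrix (Fin n) (Fin n) F) :
    M.det = (-1) ^ n * M.charpoly.coeff 0 := by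
  rw [det_eq_sign_charpoly_coeff, Fintype.card_fin]

/-- Any polynomial with the right constant term is reached by a unimodular column operation. -/
theorem exists_colT {M : Matrix (Fin (m + 1)) (Fin (m + 1)) F} (hM : Hess M) (h0 : M.det ≠ 0)
    {f : F[X]} (hf : f.Monic) (hd : f.natDegree = m + 1)
    (hc : (-1) ^ (m + 1) * f.coeff 0 = M.det) :
    ∃ c : Fin (m + 1) → F, c (Fin.last m) = 0 ∧ Hess (M * colT c) ∧
      (M * colT c).charpoly = f := by
  obtain ⟨u, hu⟩ := exists_addLast hM hf hd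
  refine ⟨M⁻¹ *ᵥ u, ?_, ?_⟩
  · have hM' : M * colT (M⁻¹ *ᵥ u) = addLast M u := by
      rw [mul_colT, Matrix.mulVec_mulVec, Matrix.mul_nonsing_inv _ h0.isUnit, Matrix.one_mulVec]
    have := congrArg Matrix.det hM'
    rw [det_mul, det_colT, det_eq_coeff (addLast M u), hu, hc] at this
    have h2 : M.det * (M⁻¹ *ᵥ u) (Fin.last m) = 0 := by linear_combination this
    exact (mul_eq_zero.1 h2).resolve_left h0
  · rw [mul_colT, Matrix.mulVec_mulVec, Matrix.mul_nonsing_inv _ h0.isUnit, Matrix.one_mulVec]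
    exact ⟨hess_addLast hM u, hu⟩

end Cfsg.Agent.Linear.Lev
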