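/-
Linking the blocks of a staircase matrix by a multiplier with prescribed class.
-/
import Cfsg.Agent.Linear.Lev.Knob
import Cfsg.Agent.H60.Ore.Units

set_option autoImplicit false
set_option linter.unusedSectionVars false

namespace Cfsg.Agent.Linear.Lev

open Matrix Polynomial Cfsg.Agent.H60.Ore

variable {F : Type*} [Field F] {n k : ℕ}

/-- `c` is no marked index strictly between `a` and `b`. -/
def Consec (fst : Fin n → Prop) (a b : Fin n) : Prop :=
  fst a ∧ fst b ∧ a < b ∧ ∀ c, a < c → c < b → ¬fst c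

/-- A block Hessenberg matrix; the marked rows meet the blocks only in the last column of the
block. -/
structure Stair (H : Matrix (Fin n) (Fin n) F) (fst : Fin n → Prop) : Prop where
  zero : ∀ i j : Fin n, j.val + 1 < i.val → H i j = 0
  sub : ∀ i j : Fin n, i.val = j.val + 1 → ¬fst i → H i j ≠ 0
  brk : ∀ i j : Fin n, i.val = j.val + 1 → fst i → H i j = 0
  rowz : ∀ a b, Consec fst a b → ∀ j : Fin n, j.val + 1 < b.val → H a j = 0
  rowl : ∀ a b, Consec fst a b → ∀ j : Fin n, j.val + 1 = b.val → H a j ≠ 0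
  top : ∀ a, fst a → (∀ c, a < c → ¬fst c) → ∀ j : Fin n, j.val + 1 < n → H a j = 0
  head : ∀ i : Fin n, i.val = 0 → fst i
  last : ∀ i : Fin n, i.val + 1 = n → ¬fst i

/-- A path through all marked indices, ending at the greatest one. -/
structure LinkPath (fst : Fin n → Prop) (π : Fin (k + 1) → Fin n) : Prop where
  inj : Function.Injective π
  avoid : ∀ i, (π i).val + 1 ≠ n
  step : ∀ i : Fin k, π i.succ < π i.castSucc ∨ Consec fst (π i.castSucc) (π i.succ)
  pred : ∀ b, fst b → b.val ≠ 0 → ∃ i : Fin k, π i.succ = b ∧ π i.castSucc < b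
  fst_end : fst (π (Fin.last k))
  max_end : ∀ c, π (Fin.last k) < c → ¬fst c

/-- The matrix on the window. -/
def win (π : Fin (k + 1) → Fin n) (t : Fin n → F) (y : Fin (k + 1) → F) :
    Matrix (Fin (k + 1)) (Fin (k + 1)) F :=
  fun i j => if j = Fin.last k then y i else if i = j then t (π i) else
    if i.val = j.val + 1 then 1 else 0

theorem hess_win (π : Fin (k + 1) → Fin n) (t : Fin n → F) (y : Fin (k + 1) → F) :
    Hess (win π t y) := by
  refine ⟨fun i j h => ?_, fun i j h => ?_⟩ <;>
    rw [win, if_neg (fun e => by subst e; simp at h; omega),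
      if_neg (fun e => by subst e; omega)]
  · rw [if_neg (by omega)]
  · rw [if_pos h]; exact one_ne_zero

open Classical in
/-- The multiplier. -/
noncomputable def pMat (π : Fin (k + 1) → Fin n) (t : Fin n → F) (y : Fin (k + 1) → F) :
    Matrix (Fin n) (Fin n) F :=
  fun r c => if c = π (Fin.last k) then Function.extend π y 0 r
    else (if r = c then t r else 0) +
      (if ∃ i : Fin k, π i.castSucc = c ∧ π i.succ = r then 1 else 0)

theorem pMat_ne {π : Fin (k + 1) → Fin n} {t : Fin n → F} {y : Fin (k + 1) → F} {r c : Fin n}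
    (h : pMat π t y r c ≠ 0) :
    c = π (Fin.last k) ∨ r = c ∨ ∃ i : Fin k, π i.castSucc = c ∧ π i.succ = r := by
  by_contra hne
  push Not at hne
  apply h
  rw [pMat, if_neg hne.1, if_neg hne.2.1, if_neg, add_zero]
  rintro ⟨i, h1, h2⟩
  exact hne.2.2 i h1 h2

variable {H : Matrix (Fin n) (Fin n) F} {fst : Fin n → Prop} {π : Fin (k + 1) → Fin n}
  {t : Fin n → F} {y : Fin (k + 1) → F}

theorem edge_le (hπ : LinkPath fst π) (i : Fin k) :
    π i.succ < π i.castSucc ∨ (fst (π i.succ) ∧ Consec fst (π i.castSucc) (π i.succ)) :=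
  (hπ.step i).imp_right fun h => ⟨h.2.1, h⟩

/-- The product is an unreduced Hessenberg matrix. -/
theorem hess_pMat_mul (hH : Stair H fst) (hπ : LinkPath fst π) (ht : ∀ r, ¬fst r → t r ≠ 0) :
    Hess (pMat π t y * H) := by
  refine ⟨fun r j hrj => ?_, fun r j hrj => ?_⟩
  · rw [Matrix.mul_apply]
    refine Finset.sum_eq_zero fun c _ => ?_
    by_cases hP : pMat π t y r c = 0
    · rw [hP, zero_mul]
    rw [mul_eq_zero]
    right
    rcases pMat_ne hP with rfl | rfl | ⟨i, rfl, rfl⟩
    · exact hH.top _ hπ.fst_end hπ.max_end j (by omega)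
    · exact hH.zero _ _ hrj
    · rcases edge_le hπ i with hlt | ⟨-, hc⟩
      · exact hH.zero _ _ (by have := Fin.lt_def.1 hlt; omega)
      · exact hH.rowz _ _ hc j hrj
  · rw [Matrix.mul_apply]
    by_cases hr : fst r
    · obtain ⟨i, hi, hlt⟩ := hπ.pred r hr (by omega)
      have hc : Consec fst (π i.castSucc) r := by
        rcases edge_le hπ i with h | ⟨-, h⟩
        · rw [hi] at h; exact absurd h (lt_asymm hlt)
        · rwa [hi] at h
      have hne : π i.castSucc ≠ π (Fin.last k) := fun e =>
        (Fin.castSucc_lt_last i).ne (hπ.inj e)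
      rw [Finset.sum_eq_single (π i.castSucc)]
      · refine mul_ne_zero ?_ (hH.rowl _ _ hc j hrj.symm)
        rw [pMat, if_neg hne, if_neg hlt.ne', if_pos ⟨i, rfl, hi⟩, zero_add]
        exact one_ne_zero
      · intro c _ hne'
        by_cases hP : pMat π t y r c = 0
        · rw [hP, zero_mul]
        rw [mul_eq_zero]
        right
        rcases pMat_ne hP with rfl | rfl | ⟨i', rfl, hi'⟩
        · exact hH.top _ hπ.fst_end hπ.max_end j (by omega)
        · exact hH.brk _ _ hrj hr
        · have : i' = i := Fin.succ_injective _ (hπ.inj (hi'.trans hi.symm))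
          exact absurd (by rw [this]) hne'
      · simp
    · rw [Finset.sum_eq_single r]
      · refine mul_ne_zero ?_ (hH.sub _ _ hrj hr)
        have h1 : r ≠ π (Fin.last k) := fun e => hr (e ▸ hπ.fst_end)
        rw [pMat, if_neg h1, if_pos rfl, if_neg, add_zero]
        · exact ht r hr
        · rintro ⟨i, h2, h3⟩
          exact (Fin.castSucc_lt_succ (i := i)).ne (hπ.inj (h2.trans h3.symm))
      · intro c _ hne'
        by_cases hP : pMat π t y r c = 0
        · rw [hP, zero_mul]
        rw [mul_eq_zero]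
        right
        rcases pMat_ne hP with rfl | rfl | ⟨i, rfl, rfl⟩
        · exact hH.top _ hπ.fst_end hπ.max_end j (by omega)
        · exact absurd rfl hne'
        · rcases edge_le hπ i with hlt | ⟨hf, -⟩
          · exact hH.zero _ _ (by have := Fin.lt_def.1 hlt; omega)
          · exact absurd hf hr
      · simp

/-- The indices outside the path. -/
abbrev Outside (π : Fin (k + 1) → Fin n) := {c : Fin n // ∀ i, π i ≠ c}

/-- Path indices first. -/
noncomputable def splitEquiv (hπ : Function.Injective π) :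
    Fin (k + 1) ⊕ Outside π ≃ Fin n :=
  Equiv.ofBijective (Sum.elim π Subtype.val) ⟨by
    rintro (i | ⟨a, ha⟩) (j | ⟨b, hb⟩) h
    · exact congrArg Sum.inl (hπ h)
    · exact absurd h (hb i)
    · exact absurd h.symm (ha j)
    · exact congrArg Sum.inr (Subtype.ext h), fun c => by
    by_cases h : ∃ i, π i = c
    · obtain ⟨i, rfl⟩ := h; exact ⟨Sum.inl i, rfl⟩
    · push Not at h; exact ⟨Sum.inr ⟨c, h⟩, rfl⟩⟩

theorem splitEquiv_inl (hπ : Function.Injective π) (i : Fin (k + 1)) :
    splitEquiv hπ (Sum.inl i) = π i := rfl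

theorem splitEquiv_inr (hπ : Function.Injective π) (c : Outside π) :
    splitEquiv hπ (Sum.inr c) = c.1 := rfl

theorem pMat_submatrix (hπ : Function.Injective π) :
    (pMat π t y).submatrix (splitEquiv hπ) (splitEquiv hπ) =
      fromBlocks (win π t y) 0 0 (diagonal fun c : Outside π => t c.1) := by
  have hex : ∀ i, Function.extend π y 0 (π i) = y i := fun i => hπ.extend_apply y 0 i
  ext (i | ⟨a, ha⟩) (j | ⟨b, hb⟩) <;>
    simp only [submatrix_apply, splitEquiv_inl, splitEquiv_inr,
      fromBlocks_apply₁₁, fromBlocks_apply₁₂, fromBlocks_apply₂₁, fromBlocks_apply₂₂]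
  · rw [pMat, win]
    by_cases hj : j = Fin.last k
    · subst hj; rw [if_pos rfl, if_pos rfl, hex]
    · rw [if_neg (fun e => hj (hπ e)), if_neg hj]
      by_cases hij : i = j
      · subst hij
        rw [if_pos rfl, if_pos rfl, if_neg, add_zero]
        rintro ⟨l, h1, h2⟩
        exact (Fin.castSucc_lt_succ (i := l)).ne (hπ (h1.trans h2.symm))
      · rw [if_neg (fun e => hij (hπ e)), if_neg hij, zero_add]
        refine if_congr ⟨?_, ?_⟩ rfl rfl
        · rintro ⟨l, h1, h2⟩
          rw [← hπ h1, ← hπ h2, Fin.val_succ, Fin.val_castSucc]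
        · intro h
          have hlt : j.val < k := by
            have := i.isLt; omega
          exact ⟨⟨j.val, hlt⟩, congrArg π (Fin.ext rfl), congrArg π (Fin.ext h.symm)⟩
  · rw [pMat, if_neg (fun e => hb _ e.symm), if_neg (fun e => hb i e), if_neg, add_zero]
    · rfl
    · rintro ⟨l, h1, -⟩; exact hb _ h1
  · rw [pMat]
    by_cases hj : π j = π (Fin.last k)
    · rw [if_pos hj, Function.extend_apply' _ _ _ (by rintro ⟨l, hl⟩; exact ha l hl)]
      rfl
    · rw [if_neg hj, if_neg (fun e => ha j e.symm), if_neg, add_zero]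
      · rfl
      · rintro ⟨l, -, h2⟩; exact ha _ h2
  · rw [pMat, if_neg (fun e => hb _ e.symm), diagonal_apply]
    by_cases hab : a = b
    · subst hab
      rw [if_pos rfl, if_pos rfl, if_neg, add_zero]
      rintro ⟨l, h1, -⟩; exact hb _ h1
    · rw [if_neg hab, if_neg (fun e => hab (congrArg Subtype.val e)), if_neg, add_zero]
      rintro ⟨l, h1, -⟩; exact hb _ h1

theorem sim_pMat (hπ : Function.Injective π) :
    Sim (pMat π t y) (fromBlocks (win π t y) 0 0 (diagonal fun c : Outside π => t c.1)) :=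
  (Sim.submatrix _ (splitEquiv hπ)).trans (Sim.of_eq (pMat_submatrix hπ))

/-- The window matrix may be given any characteristic polynomial. -/
theorem exists_win (π : Fin (k + 1) → Fin n) (t : Fin n → F) {f : F[X]} (hf : f.Monic)
    (hd : f.natDegree = k + 1) : ∃ y, Sim (win π t y) (compOf (k + 1) f) := by
  obtain ⟨u, hu⟩ := exists_addLast (hess_win π t (0 : Fin (k + 1) → F)) hf hd
  have he : win π t u = addLast (win π t 0) u := by
    ext i j
    rw [addLast_apply, win, win]
    by_cases hj : j = Fin.last k <;> simp [hj]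
  refine ⟨u, (hess_win π t u).cyc.sim (cyc_compOf _ _) ?_⟩
  rw [he, hu, charpoly_compOf hf hd]

open Classical in
/-- A path through all indices but the last one. -/
theorem exists_linkPath {H : Matrix (Fin (k + 2)) (Fin (k + 2)) F} {fst : Fin (k + 2) → Prop}
    (hH : Stair H fst) : ∃ π : Fin (k + 1) → Fin (k + 2), LinkPath fst π ∧
      ∀ c, (∀ i, π i ≠ c) → c = Fin.last (k + 1) := by
  let key : Fin (k + 2) → ℕ := fun c => if fst c then (k + 2) + c.val else (k + 2) - c.val
  have hinj : Function.Injective key := by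
    intro a b h
    simp only [key] at h
    have := a.isLt; have := b.isLt
    split_ifs at h with ha hb hb
    · exact Fin.ext (by omega)
    · exact absurd (hH.head b (by omega)) hb
    · exact absurd (hH.head a (by omega)) ha
    · exact Fin.ext (by omega)
  let S : Finset ℕ := (Finset.univ.filter fun c => c ≠ Fin.last (k + 1)).image key
  have hS : S.card = k + 1 := by
    rw [Finset.card_image_of_injective _ hinj, Finset.filter_ne', Finset.card_erase_of_mem
      (Finset.mem_univ _), Finset.card_univ, Fintype.card_fin]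
    rfl
  let o := S.orderIsoOfFin hS
  have hex : ∀ i, ∃ c, c ≠ Fin.last (k + 1) ∧ key c = (o i : ℕ) := fun i => by
    obtain ⟨c, hc, h⟩ := Finset.mem_image.1 (o i).2
    exact ⟨c, (Finset.mem_filter.1 hc).2, h⟩
  choose π hπl hπk using hex
  have hmono : ∀ i j, key (π i) < key (π j) ↔ i < j := fun i j => by
    rw [hπk, hπk, Subtype.coe_lt_coe, o.lt_iff_lt]
  have hsurj : ∀ c, c ≠ Fin.last (k + 1) → ∃ i, π i = c := fun c hc => by
    have hm : key c ∈ S := Finset.mem_image_of_mem _ (Finset.mem_filter.2 ⟨Finset.mem_univ _, hc⟩)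
    obtain ⟨i, hi⟩ := o.surjective ⟨key c, hm⟩
    exact ⟨i, hinj ((hπk i).trans (congrArg Subtype.val hi))⟩
  have hbetween : ∀ (i : Fin k) c, c ≠ Fin.last (k + 1) →
      ¬(key (π i.castSucc) < key c ∧ key c < key (π i.succ)) := by
    intro i c hc h
    obtain ⟨l, rfl⟩ := hsurj c hc
    rw [hmono, hmono, Fin.lt_def, Fin.lt_def, Fin.val_castSucc, Fin.val_succ] at h
    omega
  have hlast : ∀ c, fst c → c ≠ Fin.last (k + 1) := fun c hc e =>
    hH.last c (by rw [e]; simp) hc
  have h0 : fst 0 := hH.head 0 rfl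
  refine ⟨π, ⟨fun i j h => ?_, fun i h => hπl i (Fin.ext (by simp; omega)), fun i => ?_,
    fun b hb hb0 => ?_, ?_, fun c hc hcf => ?_⟩, fun c hc => ?_⟩
  · rcases lt_trichotomy i j with hl | hl | hl
    · exact absurd ((hmono i j).2 hl) (by rw [h]; exact lt_irrefl _)
    · exact hl
    · exact absurd ((hmono j i).2 hl) (by rw [h]; exact lt_irrefl _)
  · have hlt : key (π i.castSucc) < key (π i.succ) :=
      (hmono _ _).2 (Fin.castSucc_lt_succ (i := i))
    set a := π i.castSucc with ha
    set b := π i.succ with hb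
    have := a.isLt; have := b.isLt
    by_cases hfb : fst b
    · by_cases hfa : fst a
      · right
        refine ⟨hfa, hfb, ?_, fun c h1 h2 hfc => ?_⟩
        · simp only [key, if_pos hfa, if_pos hfb] at hlt
          exact Fin.lt_def.2 (by omega)
        · refine hbetween i c (hlast c hfc) ?_
          simp only [key, if_pos hfa, if_pos hfb, if_pos hfc, ← ha, ← hb]
          rw [Fin.lt_def] at h1 h2
          omega
      · left
        have hb0 : b.val = 0 := by
          by_contra hb0
          refine hbetween i 0 (hlast 0 h0) ?_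
          have : a.val ≠ 0 := fun e => hfa (hH.head a e)
          simp only [key, if_neg hfa, if_pos hfb, if_pos h0, ← ha, ← hb, Fin.val_zero]
          omega
        have : a.val ≠ 0 := fun e => hfa (hH.head a e)
        exact Fin.lt_def.2 (by omega)
    · left
      have : b.val ≠ 0 := fun e => hfb (hH.head b e)
      simp only [key, if_neg hfb] at hlt
      split_ifs at hlt
      · omega
      · exact Fin.lt_def.2 (by omega)
  · obtain ⟨j, hj⟩ := hsurj b (hlast b hb)
    obtain ⟨z, hz⟩ := hsurj 0 (hlast 0 h0)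
    have hzj : z < j := by
      rw [← hmono, hz, hj]
      simp only [key, if_pos hb, if_pos h0, Fin.val_zero]
      omega
    obtain ⟨i, rfl⟩ := Fin.exists_succ_eq.2 (Fin.ne_zero_of_lt hzj)
    refine ⟨i, hj, ?_⟩
    have hz' : z ≤ i.castSucc := Fin.le_castSucc_iff.2 hzj
    have hfa : fst (π i.castSucc) := by
      by_contra hfa
      have h1 : key 0 ≤ key (π i.castSucc) := by
        rcases hz'.eq_or_lt with e | h
        · rw [← hz, e]
        · rw [← hz]; exact ((hmono _ _).2 h).le
      simp only [key, if_neg hfa, if_pos h0, Fin.val_zero] at h1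
      exact hfa (hH.head _ (by omega))
    have := (hmono _ _).2 (Fin.castSucc_lt_succ (i := i))
    rw [hj] at this
    simp only [key, if_pos hfa, if_pos hb] at this
    exact Fin.lt_def.2 (by omega)
  · by_contra hf
    obtain ⟨z, hz⟩ := hsurj 0 (hlast 0 h0)
    have h1 : key (π z) ≤ key (π (Fin.last k)) := by
      rcases (Fin.le_last z).eq_or_lt with e | h
      · rw [e]
      · exact ((hmono _ _).2 h).le
    rw [hz] at h1
    simp only [key, if_neg hf, if_pos h0, Fin.val_zero] at h1
    exact hf (hH.head _ (by omega))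
  · have hfst : fst (π (Fin.last k)) := by
      by_contra hf
      obtain ⟨z, hz⟩ := hsurj 0 (hlast 0 h0)
      have h1 : key (π z) ≤ key (π (Fin.last k)) := by
        rcases (Fin.le_last z).eq_or_lt with e | h
        · rw [e]
        · exact ((hmono _ _).2 h).le
      rw [hz] at h1
      simp only [key, if_neg hf, if_pos h0, Fin.val_zero] at h1
      exact hf (hH.head _ (by omega))
    obtain ⟨z, hz⟩ := hsurj c (hlast c hcf)
    have h1 : key (π z) ≤ key (π (Fin.last k)) := by
      rcases (Fin.le_last z).eq_or_lt with e | h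
      · rw [e]
      · exact ((hmono _ _).2 h).le
    rw [hz] at h1
    simp only [key, if_pos hcf, if_pos hfst] at h1
    rw [Fin.lt_def] at hc
    omega
  · by_contra h
    obtain ⟨i, hi⟩ := hsurj c h
    exact hc i hi

/-- A multiplier with one simple eigenvalue making the product cyclic, both classes prescribed. -/
theorem stair_classes {H : Matrix (Fin (k + 2)) (Fin (k + 2)) F} {fst : Fin (k + 2) → Prop}
    (hH : Stair H fst) (hdH : H.det ≠ 0) {f g : F[X]} {γ : F} (hf : f.Monic)
    (hfd : f.natDegree = k + 1) (hf0 : f.coeff 0 ≠ 0) (hγ : γ ≠ 0) (hfγ : f.eval γ ≠ 0)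
    (hg : g.Monic) (hgd : g.natDegree = k + 2)
    (hdet : (-1) ^ (k + 2) * g.coeff 0 = (compOf (k + 1) f).det * γ * H.det) :
    ∃ P W : Matrix (Fin (k + 2)) (Fin (k + 2)) F, W = P * H ∧
      Sim P (fromBlocks (compOf (k + 1) f) 0 0 (γ • (1 : Matrix (Fin 1) (Fin 1) F))) ∧
      Cyc W ∧ W.charpoly = g := by
  classical
  obtain ⟨π, hπ, hout⟩ := exists_linkPath hH
  let t : Fin (k + 2) → F := fun c => if c = Fin.last (k + 1) then γ else 1
  obtain ⟨y, hy⟩ := exists_win π t hf hfd
  have hl : ∀ i, π i ≠ Fin.last (k + 1) := fun i e => hπ.avoid i (by rw [e]; simp)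
  let e' : Fin 1 ≃ Outside π :=
    { toFun := fun _ => ⟨Fin.last (k + 1), hl⟩
      invFun := fun _ => 0
      left_inv := fun i => Subsingleton.elim _ _
      right_inv := fun c => Subtype.ext (hout c.1 c.2).symm }
  set P₀ := pMat π t y with hP₀
  let e : Fin (k + 1) ⊕ Fin 1 ≃ Fin (k + 2) :=
    (Equiv.sumCongr (Equiv.refl _) e').trans (splitEquiv hπ.inj)
  have hP₀e : P₀.submatrix e e = fromBlocks (win π t y) 0 0 (γ • 1) := by
    rw [show P₀.submatrix e e = (P₀.submatrix (splitEquiv hπ.inj) (splitEquiv hπ.inj)).submatrix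
      (Equiv.sumCongr (Equiv.refl _) e') (Equiv.sumCongr (Equiv.refl _) e') from rfl,
      pMat_submatrix hπ.inj]
    ext (i | i) (j | j)
    · rfl
    · rfl
    · rfl
    · simp [e', t, Fin.fin_one_eq_zero]
  have hP₀d : P₀.det = (compOf (k + 1) f).det * γ := by
    rw [← det_submatrix_equiv_self e P₀, hP₀e, det_fromBlocks_zero₂₁, hy.det_eq]
    simp
  have hd0 : (compOf (k + 1) f).det * γ ≠ 0 := by
    rw [det_compOf hf hfd]
    exact mul_ne_zero (mul_ne_zero (pow_ne_zero _ (neg_ne_zero.2 one_ne_zero)) hf0) hγ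
  have hM : Hess (P₀ * H) := hess_pMat_mul hH hπ fun r _ => by
    simp only [t]; split_ifs <;> simp [hγ]
  obtain ⟨c, hc0, hW, hWg⟩ := exists_colT hM (by rw [det_mul, hP₀d]; exact mul_ne_zero hd0 hdH)
    hg hgd (by rw [hdet, det_mul, hP₀d])
  have hs : Sim (colT c * (P₀ * H)) (P₀ * H * colT c) := sim_colT hc0
  refine ⟨colT c * P₀, colT c * P₀ * H, rfl, ?_, ?_, ?_⟩
  · refine ((Sim.submatrix _ e).trans (Sim.of_eq ?_)).trans
      ((sim_upper _ _ ?_ (replicateCol (Fin 1) fun i => γ * c (π i))).trans
        (hy.blocks (Sim.refl _)))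
    · rw [colT, Matrix.add_mul, Matrix.one_mul, submatrix_add, Pi.add_apply, Pi.add_apply, hP₀e]
      have hrow : ∀ j, P₀ (Fin.last (k + 1)) (e j) =
          Sum.elim (0 : Fin (k + 1) → F) (fun _ => γ) j := fun j => by
        have := congrFun (congrFun hP₀e (Sum.inr 0)) j
        rw [submatrix_apply] at this
        rw [show e (Sum.inr 0) = Fin.last (k + 1) from rfl] at this
        rw [this]
        rcases j with j | j <;> simp [Fin.fin_one_eq_zero]
      ext i j
      rw [Matrix.add_apply, submatrix_apply, Matrix.vecMulVec_mul, Matrix.vecMulVec_apply,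
        Matrix.single_one_vecMul, Matrix.row_apply, hrow]
      rcases i with i | i <;> rcases j with j | j
      · simp
      · simp [e, splitEquiv_inl, mul_comm]
      · simp
      · have : c (e (Sum.inr i)) = 0 := hc0
        simp [this]
    · rw [hy.charpoly_eq, charpoly_compOf hf hfd,
        show (γ • 1 : Matrix (Fin 1) (Fin 1) F) = Jm 1 γ by
          ext i j; fin_cases i; fin_cases j; simp [Jm], charpoly_Jm]
      exact (coprime_lin γ hfγ 1).symm
  · rw [Matrix.mul_assoc]
    exact hW.cyc.of_sim hs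
  · rw [Matrix.mul_assoc, hs.charpoly_eq, hWg]

end Cfsg.Agent.Linear.Lev
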