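/-
Normal forms by companion blocks: staircases, and one scalar block next to blocks of degree at least
two.
-/
import Cfsg.Agent.Linear.Lev.Stair
import Cfsg.Agent.H60.Ore.Decomp

set_option autoImplicit false
set_option linter.unusedSectionVars false

namespace Cfsg.Agent.Linear.Lev

open Matrix Polynomial Cfsg.Agent.H60.Ore

variable {F : Type*} [Field F]

/-- A monic polynomial with non-zero constant term and positive degree. -/
def Pol (f : F[X]) : Prop := f.Monic ∧ f.coeff 0 ≠ 0 ∧ 1 ≤ f.natDegree

theorem Pol.mul {f g : F[X]} (hf : Pol f) (hg : Pol g) : Pol (f * g) :=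
  ⟨hf.1.mul hg.1, by rw [mul_coeff_zero]; exact mul_ne_zero hf.2.1 hg.2.1, by
    rw [hf.1.natDegree_mul hg.1]; exact le_add_right hf.2.2⟩

theorem stair_comp {d : ℕ} (hd : 2 ≤ d) {f : F[X]} (h0 : f.coeff 0 ≠ 0) :
    Stair (compOf d f) (fun i : Fin d => i.val = 0) := by
  refine ⟨fun i j h => (hess_comp _).1 i j h, fun i j h _ => (hess_comp _).2 i j h,
    fun i j h hi => by omega, fun a b hc => ?_, fun a b hc => ?_, fun a ha _ j hj => ?_,
    fun i hi => hi, fun i hi h0' => by omega⟩
  · exact absurd (Fin.lt_def.1 hc.2.2.1) (by have := hc.2.1; omega)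
  · exact absurd (Fin.lt_def.1 hc.2.2.1) (by have := hc.2.1; omega)
  · rw [compOf, H60.Ore.comp, if_neg (by omega), if_neg (by omega)]

theorem bsum_natAdd {a b : ℕ} (A : Matrix (Fin a) (Fin a) F) (B : Matrix (Fin b) (Fin b) F)
    (i j : Fin b) : bsum A B (Fin.natAdd a i) (Fin.natAdd a j) = B i j := by
  simp [bsum]

theorem stair_cons {d m : ℕ} (hd : 1 ≤ d) {f : F[X]} (h0 : f.coeff 0 ≠ 0)
    {H : Matrix (Fin m) (Fin m) F} {fst : Fin m → Prop} (hH : Stair H fst) (hm : 0 < m) :
    ∃ fst', Stair (bsum (compOf d f) H) fst' := by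
  let fst' : Fin (d + m) → Prop := fun i =>
    i.val = 0 ∨ ∃ h : d ≤ i.val, fst ⟨i.val - d, by omega⟩
  have hl : ∀ i j : Fin (d + m), (hi : i.val < d) → (hj : j.val < d) →
      bsum (compOf d f) H i j = compOf d f ⟨i.val, hi⟩ ⟨j.val, hj⟩ := by
    intro i j hi hj
    show bsum (compOf d f) H (Fin.castAdd m ⟨i.val, hi⟩) (Fin.castAdd m ⟨j.val, hj⟩) = _
    simp [bsum, -Fin.castAdd_mk]
  have hr : ∀ i j : Fin (d + m), (hi : d ≤ i.val) → (hj : d ≤ j.val) →
      bsum (compOf d f) H i j = H ⟨i.val - d, by omega⟩ ⟨j.val - d, by omega⟩ := by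
    intro i j hi hj
    conv_lhs => rw [show i = Fin.natAdd d ⟨i.val - d, by omega⟩ from Fin.ext (by simp; omega),
      show j = Fin.natAdd d ⟨j.val - d, by omega⟩ from Fin.ext (by simp; omega)]
    exact bsum_natAdd _ _ _ _
  have hlr : ∀ i j : Fin (d + m), i.val < d → d ≤ j.val → bsum (compOf d f) H i j = 0 := by
    intro i j hi hj
    rw [show i = Fin.castAdd m ⟨i.val, hi⟩ from rfl,
      show j = Fin.natAdd d ⟨j.val - d, by omega⟩ from Fin.ext (by simp; omega)]
    simp [bsum, -Fin.natAdd_mk, -Fin.castAdd_mk]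
  have hrl : ∀ i j : Fin (d + m), d ≤ i.val → j.val < d → bsum (compOf d f) H i j = 0 := by
    intro i j hi hj
    rw [show j = Fin.castAdd m ⟨j.val, hj⟩ from rfl,
      show i = Fin.natAdd d ⟨i.val - d, by omega⟩ from Fin.ext (by simp; omega)]
    simp [bsum, -Fin.natAdd_mk, -Fin.castAdd_mk]
  have hfd : fst' ⟨d, by omega⟩ := Or.inr ⟨le_rfl, hH.head _ (by simp)⟩
  have hdown : ∀ a : Fin (d + m), fst' a → d ≤ a.val → fst ⟨a.val - d, by omega⟩ := by
    intro a ha hd'
    rcases ha with h | ⟨_, h⟩
    · omega
    · exact h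
  have hzero : ∀ a : Fin (d + m), fst' a → a.val < d → a.val = 0 := by
    intro a ha hd'
    rcases ha with h | ⟨h', _⟩
    · exact h
    · omega
  have hdd : ∀ a b : Fin (d + m), Consec fst' a b → (hda : d ≤ a.val) → (hdb : d ≤ b.val) →
      Consec fst ⟨a.val - d, by omega⟩ ⟨b.val - d, by omega⟩ := by
    intro a b hc hda hdb
    have := Fin.lt_def.1 hc.2.2.1
    refine ⟨hdown a hc.1 hda, hdown b hc.2.1 hdb, Fin.lt_def.2 (by simp only; omega),
      fun c h1 h2 hfc => ?_⟩
    rw [Fin.lt_def] at h1 h2
    simp only at h1 h2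
    refine hc.2.2.2 ⟨c.val + d, by omega⟩ (Fin.lt_def.2 (by simp only; omega))
      (Fin.lt_def.2 (by simp only; omega)) (Or.inr ⟨by simp, ?_⟩)
    simpa using hfc
  have hfirst : ∀ a b : Fin (d + m), Consec fst' a b → a.val < d → a.val = 0 ∧ b.val = d := by
    intro a b hc ha
    refine ⟨hzero a hc.1 ha, ?_⟩
    have hab := Fin.lt_def.1 hc.2.2.1
    rcases lt_trichotomy b.val d with h | h | h
    · have := hzero b hc.2.1 h; omega
    · exact h
    · exact absurd hfd (hc.2.2.2 _ (Fin.lt_def.2 (by simpa using ha)) (Fin.lt_def.2 (by simpa using h)))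
  refine ⟨fst', ⟨fun i j h => ?_, fun i j h hi => ?_, fun i j h hi => ?_, fun a b hc j hj => ?_,
    fun a b hc j hj => ?_, fun a ha hmax j hj => ?_, fun i hi => Or.inl hi, fun i hi hf => ?_⟩⟩
  · by_cases hi : i.val < d
    · rw [hl i j hi (by omega)]; exact (hess_comp _).1 _ _ h
    · by_cases hj : j.val < d
      · exact hrl i j (by omega) hj
      · rw [hr i j (by omega) (by omega)]; exact hH.zero _ _ (by simp only; omega)
  · by_cases hid : i.val < d
    · rw [hl i j hid (by omega)]; exact (hess_comp _).2 _ _ h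
    · by_cases hj : j.val < d
      · exact absurd (show fst' i from Or.inr ⟨by omega, hH.head _ (by simp only; omega)⟩) hi
      · rw [hr i j (by omega) (by omega)]
        exact hH.sub _ _ (by simp only; omega) fun hf => hi (Or.inr ⟨by omega, hf⟩)
  · rcases hi with h0' | ⟨hid, hf⟩
    · omega
    · by_cases hj : j.val < d
      · exact hrl i j hid hj
      · rw [hr i j hid (by omega)]; exact hH.brk _ _ (by simp only; omega) hf
  · by_cases ha : a.val < d
    · obtain ⟨h1, h2⟩ := hfirst a b hc ha
      rw [hl a j ha (by omega), compOf, H60.Ore.comp, if_neg (by simp only; omega),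
        if_neg (by simp only; omega)]
    · by_cases hjd : j.val < d
      · exact hrl a j (by omega) hjd
      · have := Fin.lt_def.1 hc.2.2.1
        rw [hr a j (by omega) (by omega)]
        exact hH.rowz _ _ (hdd a b hc (by omega) (by omega)) _ (by simp only; omega)
  · by_cases ha : a.val < d
    · obtain ⟨h1, h2⟩ := hfirst a b hc ha
      rw [hl a j ha (by omega), compOf, H60.Ore.comp, if_pos (by simp only; omega)]
      simpa [h1] using h0
    · have := Fin.lt_def.1 hc.2.2.1
      by_cases hjd : j.val < d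
      · exfalso
        have hb := hdd a b hc (by omega) (by omega)
        have := Fin.lt_def.1 hb.2.2.1
        simp only at this
        omega
      · rw [hr a j (by omega) (by omega)]
        exact hH.rowl _ _ (hdd a b hc (by omega) (by omega)) _ (by simp only; omega)
  · by_cases had : a.val < d
    · exact absurd hfd (hmax ⟨d, by omega⟩ (Fin.lt_def.2 (by simpa using had)))
    · by_cases hjd : j.val < d
      · exact hrl a j (by omega) hjd
      · rw [hr a j (by omega) (by omega)]
        refine hH.top _ (hdown a ha (by omega)) (fun c hc hfc => ?_) _ (by simp only; omega)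
        rw [Fin.lt_def] at hc
        simp only at hc
        refine hmax ⟨c.val + d, by omega⟩ (Fin.lt_def.2 (by simp only; omega))
          (Or.inr ⟨by simp, ?_⟩)
        simpa using hfc
  · rcases hf with h | ⟨h1, h2⟩
    · omega
    · exact hH.last _ (by simp only; omega) h2

theorem sz_pos {L : List F[X]} (hne : L ≠ []) (h : ∀ f ∈ L, Pol f) : 0 < sz L := by
  cases L with
  | nil => exact absurd rfl hne
  | cons f L =>
    have := (h f (List.mem_cons_self ..)).2.2
    simp only [sz]
    omega

theorem sz_perm {A B : List F[X]} (h : A.Perm B) : sz A = sz B := by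
  induction h with
  | nil => rfl
  | cons a _ ih => simp [sz, ih]
  | swap a b l => simp [sz]; omega
  | trans _ _ i1 i2 => exact i1.trans i2

theorem sz_append : ∀ A B : List F[X], sz (A ++ B) = sz A + sz B
  | [], B => by simp [sz]
  | f :: A, B => by simp [sz, sz_append A B]; omega

theorem exists_stair_blks : ∀ (L : List F[X]) (f : F[X]), (∀ g ∈ L, Pol g) → Pol f →
    2 ≤ f.natDegree → ∃ fst, Stair (blks (L ++ [f])) fst
  | [], f, _, hf, hd => by
    have hb : (blks [f] : Matrix (Fin f.natDegree) (Fin f.natDegree) F) = compOf f.natDegree f := by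
      ext i j
      have h1 : ∀ l : Fin f.natDegree, (finSumFinEquiv.symm (Fin.castAdd 0 l) :
          Fin f.natDegree ⊕ Fin 0) = Sum.inl l := fun l => finSumFinEquiv_symm_apply_castAdd l
      exact (congrArg₂ (fun a b => fromBlocks (compOf f.natDegree f) 0 0 (blks ([] : List F[X])) a b)
        (h1 i) (h1 j)).trans (fromBlocks_apply₁₁ _ _ _ _ _ _)
    refine ⟨fun i : Fin f.natDegree => i.val = 0, ?_⟩
    show Stair (blks [f] : Matrix (Fin f.natDegree) (Fin f.natDegree) F) _
    rw [hb]
    exact stair_comp hd hf.2.1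
  | g :: L, f, hL, hf, hd => by
    obtain ⟨fst, h⟩ := exists_stair_blks L f (fun x hx => hL x (List.mem_cons_of_mem _ hx)) hf hd
    exact stair_cons (hL g (List.mem_cons_self ..)).2.2 (hL g (List.mem_cons_self ..)).2.1 h
      (sz_pos (by simp) (by
        intro x hx
        rcases List.mem_append.1 hx with hx | hx
        · exact hL x (List.mem_cons_of_mem _ hx)
        · exact List.mem_singleton.1 hx ▸ hf))

theorem blks_scalar (c : F) : ∀ L : List F[X], (∀ f ∈ L, f = X - C c) → blks L = c • 1
  | [], _ => Matrix.ext fun i => isEmptyElim i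
  | f :: L, h => by
    show bsum (compOf f.natDegree f) (blks L) =
      (c • (1 : Matrix (Fin (f.natDegree + sz L)) (Fin (f.natDegree + sz L)) F))
    rw [blks_scalar c L fun g hg => h g (List.mem_cons_of_mem _ hg)]
    have hf : f = X - C c := h f (List.mem_cons_self ..)
    ext i j
    obtain ⟨i, rfl⟩ := finSumFinEquiv.surjective i
    obtain ⟨j, rfl⟩ := finSumFinEquiv.surjective j
    rw [bsum, submatrix_apply, Equiv.symm_apply_apply, Equiv.symm_apply_apply, Matrix.smul_apply,
      one_apply]
    have hd : f.natDegree = 1 := by rw [hf, natDegree_X_sub_C]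
    rcases i with i | i <;> rcases j with j | j
    · rw [fromBlocks_apply₁₁, compOf, H60.Ore.comp, if_pos (by omega), if_pos (congrArg _ (congrArg
        Sum.inl (Fin.ext (by omega)))), show i.val = 0 by omega, hf]
      simp
    · rw [fromBlocks_apply₁₂, if_neg (fun e => by simpa using finSumFinEquiv.injective e)]
      simp
    · rw [fromBlocks_apply₂₁, if_neg (fun e => by simpa using finSumFinEquiv.injective e)]
      simp
    · rw [fromBlocks_apply₂₂, Matrix.smul_apply, one_apply]
      congr 1
      refine if_congr ?_ rfl rfl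
      exact ⟨fun e => by rw [e], fun e => Sum.inr.inj (finSumFinEquiv.injective e)⟩

theorem Pol.linear {f : F[X]} (hf : Pol f) (hd : f.natDegree = 1) :
    f = X - C (-f.coeff 0) ∧ f.coeff 0 ≠ 0 := by
  refine ⟨?_, hf.2.1⟩
  conv_lhs => rw [hf.1.eq_X_add_C hd]
  simp

theorem sim_scalar {ι κ : Type} [Fintype ι] [DecidableEq ι] [Fintype κ] [DecidableEq κ]
    {A : Matrix ι ι F} {c : F} (h : Sim A (c • (1 : Matrix κ κ F))) : A = c • 1 := by
  obtain ⟨P, Q, h1, h2, h3⟩ := h
  rw [Matrix.mul_smul, Matrix.mul_one] at h3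
  rw [← Matrix.mul_one A, ← h1, ← Matrix.mul_assoc, h3, Matrix.smul_mul]

theorem prim_pol {f : F[X]} (h : Prim f) : Pol f := ⟨h.monic, h.coeff_ne, h.pos⟩

/-- Every non-scalar invertible matrix has a staircase form. -/
theorem exists_stair {n : ℕ} (h : Matrix (Fin n) (Fin n) F) (hd : h.det ≠ 0)
    (hns : ∀ c : F, h ≠ c • 1) :
    ∃ (H : Matrix (Fin n) (Fin n) F) (fst : Fin n → Prop), Sim h H ∧ Stair H fst := by
  classical
  obtain ⟨L, hL, hsz, hsim⟩ := exists_blks (GeneralLinearGroup.mkOfDetNeZero h hd)
  have hsim' : Sim h (blks L) := hsim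
  have fin : ∀ (M : List F[X]) (f : F[X]), (∀ g ∈ M, Pol g) → Pol f → 2 ≤ f.natDegree →
      sz (M ++ [f]) = n → Sim h (blks (M ++ [f])) →
      ∃ (H : Matrix (Fin n) (Fin n) F) (fst : Fin n → Prop), Sim h H ∧ Stair H fst := by
    intro M f hM hf hd2 hs hsim
    obtain ⟨fst, hst⟩ := exists_stair_blks M f hM hf hd2
    subst hs
    exact ⟨_, fst, hsim, hst⟩
  by_cases hbig : ∃ f ∈ L, 2 ≤ f.natDegree
  · obtain ⟨f, hf, hd2⟩ := hbig
    have hp : L.Perm (L.erase f ++ [f]) :=
      (List.perm_cons_erase hf).trans (List.perm_append_singleton f (L.erase f)).symm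
    exact fin _ f (fun g hg => prim_pol (hL g (List.mem_of_mem_erase hg))) (prim_pol (hL f hf)) hd2
      (by rw [← sz_perm hp, hsz]) (hsim'.trans (blks_perm hp))
  · push Not at hbig
    have hlin : ∀ f ∈ L, f.natDegree = 1 := fun f hf => by
      have := hbig f hf; have := (hL f hf).pos; omega
    obtain ⟨f, hf, g, hg, hfg⟩ : ∃ f ∈ L, ∃ g ∈ L, f ≠ g := by
      by_contra hall
      push Not at hall
      cases hL' : L with
      | nil =>
        subst hL'
        refine hns 1 ?_
        simp only [sz] at hsz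
        subst hsz
        exact Matrix.ext fun i => Fin.elim0 i
      | cons f M =>
        have hm : f ∈ L := by rw [hL']; exact List.mem_cons_self ..
        obtain ⟨he, -⟩ := (prim_pol (hL f hm)).linear (hlin f hm)
        refine hns (-f.coeff 0) (sim_scalar (κ := Fin (sz L)) ?_)
        rw [← blks_scalar (-f.coeff 0) L fun x hx => (hall x hx f hm).trans he]
        exact hsim'
    obtain ⟨hfe, -⟩ := (prim_pol (hL f hf)).linear (hlin f hf)
    obtain ⟨hge, -⟩ := (prim_pol (hL g hg)).linear (hlin g hg)
    have hco : IsCoprime f g := by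
      rw [hfe, hge, ← pow_one (X - C _), ← pow_one (X - C (-g.coeff 0))]
      exact coprime_lin_lin (fun e => hfg (by rw [hfe, hge, e])) 1 1
    set M := (L.erase f).erase g
    have hge' : g ∈ L.erase f := (List.mem_erase_of_ne (Ne.symm hfg)).2 hg
    have hp : L.Perm (M ++ [f, g]) :=
      ((List.perm_cons_erase hf).trans ((List.perm_cons_erase hge').cons f)).trans
        (List.perm_append_comm (l₁ := [f, g]))
    have hpolf := prim_pol (hL f hf)
    have hpolg := prim_pol (hL g hg)
    have hdeg : (f * g).natDegree = f.natDegree + g.natDegree :=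
      hpolf.1.natDegree_mul hpolg.1
    refine fin M (f * g) (fun x hx => prim_pol (hL x (List.mem_of_mem_erase
      (List.mem_of_mem_erase hx)))) (hpolf.mul hpolg)
      (by rw [hdeg, hlin f hf, hlin g hg]) ?_ ?_
    · rw [← hsz, sz_perm hp, sz_append, sz_append]
      simp only [sz, hdeg]
      omega
    · refine (hsim'.trans (blks_perm hp)).trans ((blks_append _ _).trans (Sim.trans
        ((Sim.refl _).blocks ?_) (blks_append _ _).symm))
      refine (blks_pair f g).trans ((sim_merge hpolf.1 rfl hpolg.1 rfl hco).trans ?_)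
      rw [← hdeg]
      exact (blks_singleton _).symm

/-- One scalar block and blocks of degree at least two. -/
theorem exists_normal {n : ℕ} (x : Matrix (Fin n) (Fin n) F) (hd : x.det ≠ 0) :
    ∃ (c : F) (s : ℕ) (B : List F[X]), (∀ f ∈ B, Pol f ∧ 2 ≤ f.natDegree) ∧ s + sz B = n ∧
      c ≠ 0 ∧ Sim x (fromBlocks (c • (1 : Matrix (Fin s) (Fin s) F)) 0 0 (blks B)) := by
  classical
  obtain ⟨L, hL, hsz, hsim⟩ := exists_blks (GeneralLinearGroup.mkOfDetNeZero x hd)
  have key : ∀ (N : ℕ) (L : List F[X]), L.length ≤ N → (∀ f ∈ L, Pol f) → sz L = n →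
      Sim x (blks L) → ∃ (c : F) (s : ℕ) (B : List F[X]), (∀ f ∈ B, Pol f ∧ 2 ≤ f.natDegree) ∧
        s + sz B = n ∧ c ≠ 0 ∧
          Sim x (fromBlocks (c • (1 : Matrix (Fin s) (Fin s) F)) 0 0 (blks B)) := by
    intro N
    induction N with
    | zero =>
      intro L hlen hL hsz hsim
      obtain rfl : L = [] := List.length_eq_zero_iff.1 (by omega)
      exact ⟨1, 0, [], by simp, by simpa using hsz, one_ne_zero,
        hsim.trans ((Sim.comm _ _).trans (Sim.empty _ _)).symm⟩
    | succ N ih =>
      intro L hlen hL hsz hsim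
      by_cases hmix : ∃ f ∈ L, ∃ g ∈ L, f.natDegree = 1 ∧ g.natDegree = 1 ∧ f ≠ g
      · obtain ⟨f, hf, g, hg, hf1, hg1, hfg⟩ := hmix
        obtain ⟨hfe, -⟩ := (hL f hf).linear hf1
        obtain ⟨hge, -⟩ := (hL g hg).linear hg1
        have hco : IsCoprime f g := by
          rw [hfe, hge, ← pow_one (X - C _), ← pow_one (X - C (-g.coeff 0))]
          exact coprime_lin_lin (fun e => hfg (by rw [hfe, hge, e])) 1 1
        set M := (L.erase f).erase g
        have hge' : g ∈ L.erase f := (List.mem_erase_of_ne (Ne.symm hfg)).2 hg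
        have hp : L.Perm ([f, g] ++ M) :=
          (List.perm_cons_erase hf).trans ((List.perm_cons_erase hge').cons f)
        have hdeg : (f * g).natDegree = f.natDegree + g.natDegree :=
          (hL f hf).1.natDegree_mul (hL g hg).1
        refine ih ((f * g) :: M) ?_ ?_ ?_ ?_
        · have := hp.length_eq
          simp at this ⊢
          omega
        · intro a ha
          rcases List.mem_cons.1 ha with rfl | ha
          · exact (hL f hf).mul (hL g hg)
          · exact hL a (List.mem_of_mem_erase (List.mem_of_mem_erase ha))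
        · rw [← hsz, sz_perm hp]
          simp only [sz, hdeg, List.cons_append, List.nil_append]
          omega
        · refine (hsim.trans (blks_perm hp)).trans ((blks_append _ _).trans (Sim.trans
            (Sim.blocks ?_ (Sim.refl _)) (blks_append [f * g] M).symm))
          refine (blks_pair f g).trans ((sim_merge (hL f hf).1 rfl (hL g hg).1 rfl hco).trans ?_)
          rw [← hdeg]
          exact (blks_singleton _).symm
      · push Not at hmix
        set A := L.filter fun f => decide (f.natDegree = 1)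
        set B := L.filter fun f => !decide (f.natDegree = 1)
        have hp : L.Perm (A ++ B) := (List.filter_append_perm _ L).symm
        have hB : ∀ f ∈ B, Pol f ∧ 2 ≤ f.natDegree := fun f hf => by
          simp only [B, List.mem_filter, Bool.not_eq_true', decide_eq_false_iff_not] at hf
          exact ⟨hL f hf.1, by have := (hL f hf.1).2.2; omega⟩
        obtain ⟨c, hc, hA⟩ : ∃ c : F, c ≠ 0 ∧ ∀ f ∈ A, f = X - C c := by
          cases hA' : A with
          | nil => exact ⟨1, one_ne_zero, by simp⟩
          | cons f A' =>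
            have hf : f ∈ A := by rw [hA']; exact List.mem_cons_self ..
            simp only [A, List.mem_filter, decide_eq_true_eq] at hf
            obtain ⟨he, h0⟩ := (hL f hf.1).linear hf.2
            refine ⟨-f.coeff 0, neg_ne_zero.2 h0, fun g hg => ?_⟩
            rw [← hA'] at hg
            simp only [A, List.mem_filter, decide_eq_true_eq] at hg
            rw [← hmix f hf.1 g hg.1 hf.2 hg.2]
            exact he
        refine ⟨c, sz A, B, hB, by rw [← hsz, sz_perm hp, sz_append], hc, ?_⟩
        rw [← blks_scalar c A hA]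
        exact hsim.trans ((blks_perm hp).trans (blks_append A B))
  exact key L.length L le_rfl (fun f hf => prim_pol (hL f hf)) hsz hsim

end Cfsg.Agent.Linear.Lev
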