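/-
Matrices of determinant one moving independent pairs.
-/
import Cfsg.Agent.Linear.Lev.Basic

set_option autoImplicit false
set_option linter.unusedSectionVars false

namespace Cfsg.Agent.Linear.Lev

open Matrix Module

variable {F : Type*} [Field F]
variable {ι : Type} [Fintype ι] [DecidableEq ι]

theorem dual_eq_dotProduct (φ : Dual F (ι → F)) (u : ι → F) :
    φ u = (fun i => φ (Pi.single i 1)) ⬝ᵥ u := by
  conv_lhs => rw [pi_eq_sum_univ' u]
  simp only [map_sum, map_smul, dotProduct, smul_eq_mul, mul_comm]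

/-- Vectors outside a subspace are separated from it by a row vector. -/
theorem exists_row (T : Submodule F (ι → F)) {q : ι → F} (hq : q ∉ T) :
    ∃ ψ : ι → F, ψ ⬝ᵥ q = 1 ∧ ∀ u ∈ T, ψ ⬝ᵥ u = 0 := by
  obtain ⟨φ, h, h'⟩ := Submodule.exists_dual_map_eq_bot_of_notMem hq inferInstance
  refine ⟨fun i => ((φ q)⁻¹ • φ) (Pi.single i 1), ?_, fun u hu => ?_⟩
  · rw [← dual_eq_dotProduct, LinearMap.smul_apply, smul_eq_mul, inv_mul_cancel₀ h]
  · have h0 : φ u ∈ (⊥ : Submodule F F) := h' ▸ Submodule.mem_map_of_mem hu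
    rw [← dual_eq_dotProduct, LinearMap.smul_apply, smul_eq_mul, (Submodule.mem_bot F).1 h0,
      mul_zero]

theorem finrank_pair {a b : ι → F} (h : LinearIndependent F ![a, b]) :
    finrank F (Submodule.span F ({a, b} : Set (ι → F))) = 2 := by
  have := finrank_span_eq_card h
  rwa [Matrix.range_cons_cons_empty, Fintype.card_fin] at this

theorem exists_notMem_pair (h3 : 3 ≤ Fintype.card ι) (a b : ι → F) :
    ∃ q, q ∉ Submodule.span F ({a, b} : Set (ι → F)) := by
  by_contra hne
  push Not at hne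
  classical
  have htop : Submodule.span F ({a, b} : Set (ι → F)) = ⊤ := eq_top_iff.2 fun u _ => hne u
  have h1 := finrank_span_le_card ({a, b} : Set (ι → F)) (R := F)
  rw [htop, finrank_top, Module.finrank_fintype_fun_eq_card] at h1
  have h2 : ({a, b} : Set (ι → F)).toFinset.card ≤ 2 := by
    rw [Set.toFinset_insert, Set.toFinset_singleton]
    exact (Finset.card_insert_le _ _).trans (by simp)
  omega

/-- An invertible matrix moving an independent pair to another one. -/
theorem exists_gl_pair {a b c d : ι → F} (hab : LinearIndependent F ![a, b])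
    (hcd : LinearIndependent F ![c, d]) :
    ∃ g : Matrix ι ι F, g.det ≠ 0 ∧ g *ᵥ a = c ∧ g *ᵥ b = d := by
  set S := Submodule.span F (Set.range ![a, b])
  set T := Submodule.span F (Set.range ![c, d])
  obtain ⟨S', hS⟩ := Submodule.exists_isCompl S
  obtain ⟨T', hT⟩ := Submodule.exists_isCompl T
  let e1 : S ≃ₗ[F] T := (Basis.span hab).equiv (Basis.span hcd) (Equiv.refl _)
  have hdim : finrank F S' = finrank F T' := by
    have h1 := Submodule.finrank_add_eq_of_isCompl hS
    have h2 := Submodule.finrank_add_eq_of_isCompl hT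
    have h3 := e1.finrank_eq
    omega
  let e : (ι → F) ≃ₗ[F] (ι → F) := (Submodule.prodEquivOfIsCompl S S' hS).symm.trans
    ((e1.prodCongr (LinearEquiv.ofFinrankEq _ _ hdim)).trans
      (Submodule.prodEquivOfIsCompl T T' hT))
  have key : ∀ i, e (![a, b] i) = ![c, d] i := by
    intro i
    have hs : ![a, b] i = ((Basis.span hab) i : ι → F) := by rw [Basis.span_apply]
    rw [hs]
    have hl : (Submodule.prodEquivOfIsCompl S S' hS).symm ((Basis.span hab) i : ι → F) =
        ((Basis.span hab) i, 0) := Submodule.prodEquivOfIsCompl_symm_apply_left S S' hS _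
    have he1 : e1 ((Basis.span hab) i) = (Basis.span hcd) i := by
      simp only [e1, Basis.equiv_apply, Equiv.refl_apply]
    simp only [e, LinearEquiv.trans_apply]
    rw [hl, LinearEquiv.prodCongr_apply, map_zero, Submodule.coe_prodEquivOfIsCompl', he1,
      Submodule.coe_zero, add_zero, Basis.span_apply]
  refine ⟨LinearMap.toMatrix' e.toLinearMap, ?_, ?_, ?_⟩
  · rw [LinearMap.det_toMatrix']
    exact (LinearEquiv.isUnit_det' e).ne_zero
  · rw [LinearMap.toMatrix'_mulVec]
    exact key 0
  · rw [LinearMap.toMatrix'_mulVec]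
    exact key 1

theorem det_dilation (s : F) (q ψ : ι → F) (h : ψ ⬝ᵥ q = 1) :
    (1 + (s - 1) • vecMulVec q ψ).det = s := by
  have hv : (s - 1) • vecMulVec q ψ =
      replicateCol (Fin 1) ((s - 1) • q) * replicateRow (Fin 1) ψ := by
    ext i j
    simp [Matrix.mul_apply, vecMulVec_apply, mul_assoc]
  rw [hv, det_one_add_mul_comm, det_unique, Matrix.add_apply, Matrix.one_apply_eq,
    Matrix.mul_apply]
  have hd : ∑ k, ψ k * ((s - 1) * q k) = s - 1 := by
    have := congrArg (fun z => (s - 1) * z) h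
    simp only [dotProduct, Finset.mul_sum, mul_one] at this
    exact (Finset.sum_congr rfl fun k _ => by ring).trans this
  simp only [replicateRow_apply, replicateCol_apply, Pi.smul_apply, smul_eq_mul]
  rw [hd]; ring

theorem dilation_mulVec (s : F) (q ψ u : ι → F) :
    (1 + (s - 1) • vecMulVec q ψ) *ᵥ u = u + ((s - 1) * (ψ ⬝ᵥ u)) • q := by
  rw [Matrix.add_mulVec, Matrix.one_mulVec, Matrix.smul_mulVec, Matrix.vecMulVec_mulVec]
  simp [smul_smul]

/-- A matrix of determinant one moving an independent pair to another one. -/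
theorem exists_sl_pair (h3 : 3 ≤ Fintype.card ι) {a b c d : ι → F}
    (hab : LinearIndependent F ![a, b]) (hcd : LinearIndependent F ![c, d]) :
    ∃ g : Matrix ι ι F, g.det = 1 ∧ g *ᵥ a = c ∧ g *ᵥ b = d := by
  obtain ⟨g, hg, ha, hb⟩ := exists_gl_pair hab hcd
  obtain ⟨q, hq⟩ := exists_notMem_pair h3 c d
  obtain ⟨ψ, hψ, hψ0⟩ := exists_row _ hq
  refine ⟨(1 + (g.det⁻¹ - 1) • vecMulVec q ψ) * g, ?_, ?_, ?_⟩
  · rw [det_mul, det_dilation _ _ _ hψ, inv_mul_cancel₀ hg]
  · rw [← Matrix.mulVec_mulVec, ha, dilation_mulVec, hψ0 c (Submodule.subset_span (by simp)),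
      mul_zero, zero_smul, add_zero]
  · rw [← Matrix.mulVec_mulVec, hb, dilation_mulVec, hψ0 d (Submodule.subset_span (by simp)),
      mul_zero, zero_smul, add_zero]

/-- An invertible matrix with a prescribed image of a non-zero vector, of determinant one. -/
theorem exists_sl_single (h2 : 2 ≤ Fintype.card ι) {a c : ι → F} (ha : a ≠ 0) (hc : c ≠ 0) :
    ∃ g : Matrix ι ι F, g.det = 1 ∧ g *ᵥ a = c := by
  have ext : ∀ u : ι → F, u ≠ 0 → ∃ q, LinearIndependent F ![u, q] := by
    intro u hu
    by_contra hne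
    push Not at hne
    have : ∀ q, q ∈ F ∙ u := fun q => by
      have := hne q
      rw [LinearIndependent.pair_iff' hu] at this
      push Not at this
      obtain ⟨t, ht⟩ := this
      exact Submodule.mem_span_singleton.2 ⟨t, ht⟩
    have htop : (F ∙ u) = ⊤ := eq_top_iff.2 fun q _ => this q
    have h1 : finrank F (F ∙ u) = 1 := finrank_span_singleton hu
    rw [htop, finrank_top, Module.finrank_fintype_fun_eq_card] at h1
    omega
  obtain ⟨b, hab⟩ := ext a ha
  obtain ⟨d, hcd⟩ := ext c hc
  obtain ⟨g, hg, hga, -⟩ := exists_gl_pair hab hcd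
  have hd : d ∉ F ∙ c := fun h => by
    obtain ⟨t, ht⟩ := Submodule.mem_span_singleton.1 h
    exact ((LinearIndependent.pair_iff' hc).1 hcd) t ht
  obtain ⟨ψ, hψ, hψ0⟩ := exists_row _ hd
  refine ⟨(1 + (g.det⁻¹ - 1) • vecMulVec d ψ) * g, ?_, ?_⟩
  · rw [det_mul, det_dilation _ _ _ hψ, inv_mul_cancel₀ hg]
  · rw [← Matrix.mulVec_mulVec, hga, dilation_mulVec,
      hψ0 c (Submodule.mem_span_singleton_self c), mul_zero, zero_smul, add_zero]

end Cfsg.Agent.Linear.Lev
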