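/-
Products of conjugates: the calculus of cyclic classes with a simple eigenvalue.
-/
import Cfsg.Agent.Linear.Lev.Blocks
import Cfsg.Agent.Linear.Lev.Move

set_option autoImplicit false
set_option linter.unusedSectionVars false

namespace Cfsg.Agent.Linear.Lev

open Matrix Polynomial Cfsg.Agent.H60.Ore

variable {F : Type*} [Field F]
variable {ι κ : Type} [Fintype ι] [DecidableEq ι] [Fintype κ] [DecidableEq κ]

theorem Sim.toConjG {A B : Matrix ι ι F} (h : Sim A B) : ConjG A B := by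
  obtain ⟨P, Q, h1, h2, h3⟩ := h
  have hQ : Q.det ≠ 0 := fun h0 => by
    have := congrArg Matrix.det h1
    rw [det_mul, h0, mul_zero, det_one] at this
    exact zero_ne_one this
  refine ⟨Q, hQ, ?_⟩
  calc Q * A = Q * A * (P * Q) := by rw [h1, Matrix.mul_one]
    _ = Q * (A * P) * Q := by simp only [Matrix.mul_assoc]
    _ = B * Q := by rw [h3, ← Matrix.mul_assoc Q P, h2, Matrix.one_mul]

theorem ConjG.toSim {A B : Matrix ι ι F} (h : ConjG A B) : Sim A B := by
  obtain ⟨g, hg, hgA⟩ := h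
  refine ⟨g⁻¹, g, Matrix.nonsing_inv_mul _ hg.isUnit, Matrix.mul_nonsing_inv _ hg.isUnit, ?_⟩
  calc A * g⁻¹ = g⁻¹ * (g * A) * g⁻¹ := by
        rw [← Matrix.mul_assoc, Matrix.nonsing_inv_mul _ hg.isUnit, Matrix.one_mul]
    _ = g⁻¹ * B := by
        rw [hgA, Matrix.mul_assoc, Matrix.mul_assoc B, Matrix.mul_nonsing_inv _ hg.isUnit,
          Matrix.mul_one]

theorem sim_inv {A : Matrix ι ι F} {B : Matrix κ κ F} (h : Sim A B) {A' : Matrix ι ι F}
    {B' : Matrix κ κ F} (hA : A * A' = 1) (hB : B * B' = 1) : Sim A' B' := by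
  obtain ⟨P, Q, h1, h2, h3⟩ := h
  refine ⟨P, Q, h1, h2, ?_⟩
  calc A' * P = A' * (P * B) * B' := by
        rw [Matrix.mul_assoc A', Matrix.mul_assoc P, hB, Matrix.mul_one]
    _ = P * B' := by
        rw [← h3, ← Matrix.mul_assoc A' A, mul_eq_one_comm.1 hA, Matrix.one_mul]

theorem cyc_inv {A A' : Matrix ι ι F} (h : A * A' = 1) (hA : Cyc A) : Cyc A' := by
  obtain ⟨v, hv⟩ := hA
  set n := Fintype.card ι
  refine cyc_of_small v fun R hd hR => ?_
  by_contra hR0
  rw [degree_eq_natDegree hR0, Nat.cast_lt] at hd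
  set e := R.natDegree
  have hpow : ∀ i ≤ e, A ^ e * A' ^ i = A ^ (e - i) := fun i hi => by
    conv_lhs => rw [show e = e - i + i by omega, pow_add, Matrix.mul_assoc,
      ← (show Commute A A' from h.trans (mul_eq_one_comm.1 h).symm).mul_pow, h, one_pow,
      Matrix.mul_one]
  set S : F[X] := ∑ i ∈ Finset.range (e + 1), C (R.coeff i) * X ^ (e - i) with hS
  have hS0 : aeval A S *ᵥ v = 0 := by
    rw [aeval_eq_sum_range] at hR
    have := congrArg (fun w => A ^ e *ᵥ w) hR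
    simp only [Matrix.sum_mulVec, Matrix.mulVec_sum, Matrix.mulVec_zero] at this
    rw [hS, map_sum, Matrix.sum_mulVec, ← this]
    refine Finset.sum_congr rfl fun i hi => ?_
    rw [map_mul, aeval_C, map_pow, aeval_X, ← Algebra.smul_def, Matrix.smul_mulVec,
      Matrix.smul_mulVec, Matrix.mulVec_smul, Matrix.mulVec_mulVec,
      hpow i (Nat.lt_succ_iff.1 (Finset.mem_range.1 hi))]
  have hdS : S.degree < A.charpoly.degree := by
    rw [degree_eq_natDegree (charpoly_monic A).ne_zero, charpoly_natDegree_eq_dim]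
    refine lt_of_le_of_lt (degree_sum_le _ _) ((Finset.sup_lt_iff (WithBot.bot_lt_coe _)).2
      fun i _ => lt_of_le_of_lt (degree_C_mul_X_pow_le _ _) (Nat.cast_lt.2 ?_))
    omega
  have hz := Polynomial.eq_zero_of_dvd_of_degree_lt (hv S hS0) hdS
  have := congrArg (fun p => p.coeff 0) hz
  rw [hS] at this
  simp only [finsetSum_coeff, coeff_C_mul, coeff_X_pow, coeff_zero] at this
  rw [Finset.sum_eq_single e] at this
  · rw [Nat.sub_self, if_pos rfl, mul_one] at this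
    exact hR0 (leadingCoeff_eq_zero.1 this)
  · intro i hi hne
    rw [Finset.mem_range] at hi
    rw [if_neg (by omega), mul_zero]
  · simp

theorem eval_charpoly_inv {A A' : Matrix ι ι F} (h : A * A' = 1) {γ : F} (hγ : γ ≠ 0)
    (hA : A.charpoly.eval γ ≠ 0) : A'.charpoly.eval γ⁻¹ ≠ 0 := by
  rw [Matrix.eval_charpoly] at hA ⊢
  intro h0
  have e : (Matrix.scalar ι γ⁻¹ - A') * A = -γ⁻¹ • (Matrix.scalar ι γ - A) := by
    rw [Matrix.sub_mul, mul_eq_one_comm.1 h, neg_smul, smul_sub]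
    have : ∀ c : F, (Matrix.scalar ι c : Matrix ι ι F) = c • 1 := fun c => by
      ext i j; simp [Matrix.scalar_apply, diagonal_apply, one_apply]
    rw [this, this, Matrix.smul_mul, Matrix.one_mul, smul_smul, inv_mul_cancel₀ hγ, one_smul,
      neg_sub]
  have := congrArg Matrix.det e
  rw [det_mul, h0, zero_mul, det_smul] at this
  exact mul_ne_zero (pow_ne_zero _ (neg_ne_zero.2 (inv_ne_zero hγ))) hA this.symm

/-- Cyclic with a simple eigenvalue in the field. -/
def RCl (y : Matrix ι ι F) : Prop :=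
  Cyc y ∧ ∃ (γ : F) (g : F[X]), y.charpoly = (X - C γ) * g ∧ g.eval γ ≠ 0

theorem RCl.cyc {y : Matrix ι ι F} (h : RCl y) : Cyc y := h.1

theorem RCl.of_sim {y : Matrix ι ι F} {z : Matrix κ κ F} (h : Sim y z) (hz : RCl z) : RCl y :=
  ⟨hz.1.of_sim h, by rw [h.charpoly_eq]; exact hz.2⟩

theorem charpoly_smul_one (γ : F) :
    (γ • (1 : Matrix (Fin 1) (Fin 1) F)).charpoly = X - C γ := by
  have h : (γ • 1 : Matrix (Fin 1) (Fin 1) F) = Jm 1 γ := by
    ext i j; fin_cases i; fin_cases j; simp [Jm]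
  rw [h, charpoly_Jm, pow_one]

theorem coprime_char {g : F[X]} {γ : F} (h : g.eval γ ≠ 0) : IsCoprime g (X - C γ) := by
  simpa using (coprime_lin γ h 1).symm

/-- The block form. -/
theorem RCl.split {y : Matrix ι ι F} (h : RCl y) {m : ℕ} (hm : Fintype.card ι = m + 1)
    (hy : y.det ≠ 0) :
    ∃ (γ : F) (g : F[X]), g.Monic ∧ g.natDegree = m ∧ g.coeff 0 ≠ 0 ∧ γ ≠ 0 ∧ g.eval γ ≠ 0 ∧
      Sim y (fromBlocks (compOf m g) 0 0 (γ • (1 : Matrix (Fin 1) (Fin 1) F))) := by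
  obtain ⟨hc, γ, g, hchi, hgγ⟩ := h
  have hgm : g.Monic := (monic_X_sub_C γ).of_mul_monic_left (hchi ▸ charpoly_monic y)
  have hgd : g.natDegree = m := by
    have := congrArg natDegree hchi
    rw [(monic_X_sub_C γ).natDegree_mul hgm, natDegree_X_sub_C, charpoly_natDegree_eq_dim, hm] at this
    omega
  have hne : γ ≠ 0 ∧ g.coeff 0 ≠ 0 := by
    rw [det_eq_sign_charpoly_coeff, hchi, mul_coeff_zero] at hy
    simp only [coeff_sub, coeff_X_zero, coeff_C_zero, zero_sub] at hy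
    exact ⟨fun h => hy (by simp [h]), fun h => hy (by simp [h])⟩
  refine ⟨γ, g, hgm, hgd, hne.2, hne.1, hgγ, hc.sim ((cyc_compOf m g).blocks (cyc_unique _) ?_) ?_⟩
  · rw [charpoly_compOf hgm hgd, charpoly_smul_one]
    exact coprime_char hgγ
  · rw [charpoly_sum, charpoly_compOf hgm hgd, charpoly_smul_one, hchi, mul_comm]

theorem RCl.mk_blocks {Y : Matrix ι ι F} (hY : Cyc Y) {γ : F} (h : Y.charpoly.eval γ ≠ 0) :
    RCl (fromBlocks Y 0 0 (γ • (1 : Matrix (Fin 1) (Fin 1) F))) :=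
  ⟨hY.blocks (cyc_unique _) (by rw [charpoly_smul_one]; exact coprime_char h), γ, Y.charpoly,
    by rw [charpoly_sum, charpoly_smul_one, mul_comm], h⟩

theorem exists_card_succ {y : Matrix ι ι F} (h : RCl y) : ∃ m, Fintype.card ι = m + 1 := by
  refine ⟨Fintype.card ι - 1, ?_⟩
  obtain ⟨-, γ, g, hchi, hgγ⟩ := h
  rcases Nat.eq_zero_or_pos (Fintype.card ι) with h0 | h0
  · exfalso
    have h1 : y.charpoly = 1 := eq_one_of_monic_natDegree_zero (charpoly_monic y)
      (by rw [charpoly_natDegree_eq_dim, h0])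
    have := congrArg (Polynomial.eval γ) (h1.symm.trans hchi)
    simp at this
  · omega

theorem RCl.cfull {y : Matrix ι ι F} (h : RCl y) (hy : y.det ≠ 0) : CFull y := by
  obtain ⟨m, hm⟩ := exists_card_succ h
  obtain ⟨γ, g, -, -, -, -, -, hs⟩ := h.split hm hy
  exact CFull.of_sim hs ((CFull.unique _).right _)

theorem RCl.inv {y z : Matrix ι ι F} (h : RCl y) (hyz : y * z = 1) : RCl z := by
  have hy : y.det ≠ 0 := fun h0 => by
    have := congrArg Matrix.det hyz
    rw [det_mul, h0, zero_mul, det_one] at this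
    exact zero_ne_one this
  obtain ⟨m, hm⟩ := exists_card_succ h
  obtain ⟨γ, g, hgm, hgd, hg0, hγ, hgγ, hs⟩ := h.split hm hy
  have hC0 : (compOf m g).det ≠ 0 := by
    rw [det_compOf hgm hgd]
    exact mul_ne_zero (pow_ne_zero _ (neg_ne_zero.2 one_ne_zero)) hg0
  have hC := Matrix.mul_nonsing_inv _ hC0.isUnit
  refine RCl.of_sim (sim_inv hs hyz (B' := fromBlocks (compOf m g)⁻¹ 0 0 (γ⁻¹ • 1)) ?_) ?_
  · rw [fromBlocks_multiply, ← fromBlocks_one]
    simp [smul_smul, inv_mul_cancel₀ hγ, hC]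
  · exact RCl.mk_blocks (cyc_inv hC (cyc_compOf m g))
      (eval_charpoly_inv hC hγ (by rwa [charpoly_compOf hgm hgd]))

theorem isSc_of_sim {x : Matrix ι ι F} {y : Matrix κ κ F} (h : Sim x y) (hy : IsSc y) :
    IsSc x := by
  obtain ⟨c, rfl⟩ := hy
  exact ⟨c, sim_scalar h⟩

/-- Two classes, one cyclic with a simple eigenvalue and the other cyclic, cover every non-scalar
matrix. -/
theorem two_classes (h2 : 2 ≤ Fintype.card ι) {h r b : Matrix ι ι F} (hh : ¬IsSc h)
    (hhd : h.det ≠ 0) (hr : RCl r) (hrd : r.det ≠ 0) (hb : Cyc b)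
    (hdet : b.det = r.det * h.det) :
    ∃ P W : Matrix ι ι F, W = P * h ∧ Sim P r ∧ Sim W b := by
  classical
  obtain ⟨k, hk⟩ : ∃ k, Fintype.card ι = k + 2 := ⟨_, (Nat.sub_add_cancel h2).symm⟩
  let e : Fin (k + 2) ≃ ι := (Fintype.equivFinOfCardEq hk).symm
  set h' := h.submatrix e e
  have hhs : Sim h h' := Sim.submatrix h e
  have hns : ∀ c : F, h' ≠ c • 1 := fun c hc => hh (isSc_of_sim hhs ⟨c, hc⟩)
  have hd' : h'.det ≠ 0 := hhs.det_eq ▸ hhd
  obtain ⟨H, fst, hsH, hst⟩ := exists_stair h' hd' hns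
  obtain ⟨γ, f, hfm, hfd, hf0, hγ, hfγ, hrs⟩ := hr.split (m := k + 1) hk hrd
  obtain ⟨P, W, hW, hP, hWc, hWg⟩ := stair_classes hst (hsH.det_eq ▸ hd') hfm hfd hf0 hγ hfγ
    (charpoly_monic b) (by rw [charpoly_natDegree_eq_dim, hk]) (by
      have h1 := det_eq_sign_charpoly_coeff b
      rw [hk] at h1
      rw [← h1, hdet, hrs.det_eq, det_fromBlocks_zero₂₁, hhs.det_eq, hsH.det_eq]
      simp)
  obtain ⟨A, B, hAB, hBA, hA⟩ := hhs.trans hsH
  have key : ∀ X : Matrix (Fin (k + 2)) (Fin (k + 2)) F, Sim (A * X * B) X := fun X =>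
    ⟨A, B, hAB, hBA, by rw [Matrix.mul_assoc, hBA, Matrix.mul_one]⟩
  refine ⟨A * P * B, A * W * B, ?_, (key P).trans (hP.trans hrs.symm),
    (key W).trans (hWc.sim hb hWg)⟩
  have hh' : h = A * H * B := by rw [← hA, Matrix.mul_assoc, hAB, Matrix.mul_one]
  rw [hh', hW]
  simp only [Matrix.mul_assoc]
  rw [← Matrix.mul_assoc B A, hBA, Matrix.one_mul]

/-- `y` is a product of `k` conjugates of `x` by matrices of determinant one. -/
def InS (x : Matrix ι ι F) (k : ℕ) (y : Matrix ι ι F) : Prop :=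
  ∃ ys : List (Matrix ι ι F), ys.length = k ∧ (∀ z ∈ ys, Conj x z) ∧ ys.prod = y

/-- All cyclic matrices with a simple eigenvalue are products of `k` conjugates. -/
def AllR (x : Matrix ι ι F) (k : ℕ) : Prop :=
  ∀ r : Matrix ι ι F, RCl r → r.det = x.det ^ k → InS x k r

variable {x : Matrix ι ι F} {k l : ℕ}

theorem InS.one {z : Matrix ι ι F} (h : Conj x z) : InS x 1 z :=
  ⟨[z], rfl, by simp [h], by simp⟩

theorem InS.mul {y z : Matrix ι ι F} (hy : InS x k y) (hz : InS x l z) :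
    InS x (k + l) (y * z) := by
  obtain ⟨a, ha, ha', rfl⟩ := hy
  obtain ⟨b, hb, hb', rfl⟩ := hz
  exact ⟨a ++ b, by simp [ha, hb], fun w hw => (List.mem_append.1 hw).elim (ha' w) (hb' w),
    List.prod_append⟩

theorem InS.det {y : Matrix ι ι F} (h : InS x k y) : y.det = x.det ^ k := by
  obtain ⟨ys, hl, hc, rfl⟩ := h
  subst hl
  induction ys with
  | nil => simp
  | cons a ys ih =>
    rw [List.prod_cons, det_mul, ← (hc a (List.mem_cons_self ..)).toG.det_eq,
      ih fun z hz => hc z (List.mem_cons_of_mem _ hz), List.length_cons, pow_succ']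

theorem InS.conj {y y' : Matrix ι ι F} (h : InS x k y) (hy : Conj y y') : InS x k y' := by
  obtain ⟨ys, hl, hc, rfl⟩ := h
  obtain ⟨g, hg, hgy⟩ := hy
  have hu : IsUnit g.det := by rw [hg]; exact isUnit_one
  refine ⟨ys.map fun z => g * z * g⁻¹, by simp [hl], fun w hw => ?_, ?_⟩
  · obtain ⟨z, hz, rfl⟩ := List.mem_map.1 hw
    exact (hc z hz).trans (conj_mk (Matrix.nonsing_inv_mul _ hu) hg)
  · have : ∀ l : List (Matrix ι ι F), (l.map fun z => g * z * g⁻¹).prod = g * l.prod * g⁻¹ := by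
      intro l
      induction l with
      | nil => simp [Matrix.mul_nonsing_inv _ hu]
      | cons a l ih =>
        rw [List.map_cons, List.prod_cons, ih, List.prod_cons]
        simp only [Matrix.mul_assoc]
        rw [← Matrix.mul_assoc g⁻¹ g, Matrix.nonsing_inv_mul _ hu, Matrix.one_mul]
    rw [this, hgy, Matrix.mul_assoc, Matrix.mul_nonsing_inv _ hu, Matrix.mul_one]

theorem InS.sim {y y' : Matrix ι ι F} (h : InS x k y) (hy : CFull y) (hs : Sim y y') :
    InS x k y' :=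
  h.conj (Conj.of_conjG hy (Sim.toConjG hs))

theorem mul_inv_of_mul {P W h : Matrix ι ι F} (hP : P.det ≠ 0) (hW : W = P * h) :
    h = P⁻¹ * W := by
  rw [hW, ← Matrix.mul_assoc, Matrix.nonsing_inv_mul _ hP.isUnit, Matrix.one_mul]

/-- One more factor: from a cyclic class to every class with a simple eigenvalue. -/
theorem AllR.of_cyc (h2 : 2 ≤ Fintype.card ι) (hx : ¬IsSc x) (hxd : x.det ≠ 0) {y : Matrix ι ι F}
    (h : InS x k y) (hy : Cyc y) (hyf : CFull y) : AllR x (k + 1) := by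
  intro r hr hrd
  have hrd0 : r.det ≠ 0 := by rw [hrd]; exact pow_ne_zero _ hxd
  have hyd : y.det ≠ 0 := by rw [h.det]; exact pow_ne_zero _ hxd
  have hr1 := Matrix.mul_nonsing_inv r hrd0.isUnit
  have hy1 := Matrix.mul_nonsing_inv y hyd.isUnit
  obtain ⟨P, W, hW, hP, hWy⟩ := two_classes h2 hx hxd (hr.inv hr1)
    (by rw [det_nonsing_inv, Ring.inverse_eq_inv']; exact inv_ne_zero hrd0) (cyc_inv hy1 hy) (by
      rw [det_nonsing_inv, det_nonsing_inv, Ring.inverse_eq_inv', h.det,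
        hrd, pow_succ, mul_inv, mul_assoc, inv_mul_cancel₀ hxd, mul_one])
  have hPd : P.det ≠ 0 := by
    rw [hP.det_eq, det_nonsing_inv, Ring.inverse_eq_inv']; exact inv_ne_zero hrd0
  have hWd : W.det ≠ 0 := by rw [hW, det_mul]; exact mul_ne_zero hPd hxd
  have hy' : Sim y W⁻¹ :=
    sim_inv hWy.symm (mul_eq_one_comm.1 hy1) (Matrix.mul_nonsing_inv _ hWd.isUnit)
  have hprod : InS x (1 + k) (x * W⁻¹) := (InS.one (Conj.refl x)).mul (h.sim hyf hy')
  have heq : x * W⁻¹ = P⁻¹ := by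
    rw [mul_inv_of_mul hPd hW, Matrix.mul_assoc, Matrix.mul_nonsing_inv _ hWd.isUnit, Matrix.mul_one]
  have hPs : Sim P⁻¹ r := sim_inv hP (Matrix.mul_nonsing_inv _ hPd.isUnit) (mul_eq_one_comm.1 hr1)
  rw [heq, Nat.add_comm] at hprod
  exact hprod.sim ((RCl.of_sim hPs hr).cfull
    (by rw [hPs.det_eq]; exact hrd0)) hPs

/-- One more factor: from a class with a simple eigenvalue to every cyclic class. -/
theorem InS.cyc_of_rcl (h2 : 2 ≤ Fintype.card ι) (hx : ¬IsSc x) (hxd : x.det ≠ 0)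
    {r b : Matrix ι ι F} (h : InS x k r) (hr : RCl r) (hb : Cyc b) (hbf : CFull b)
    (hbd : b.det = x.det ^ (k + 1)) : InS x (k + 1) b := by
  have hrd : r.det ≠ 0 := by rw [h.det]; exact pow_ne_zero _ hxd
  obtain ⟨P, W, hW, hP, hWb⟩ := two_classes h2 hx hxd hr hrd hb
    (by rw [hbd, h.det, pow_succ])
  have h1 : InS x (k + 1) W := hW ▸ (h.sim (hr.cfull hrd) hP.symm).mul (InS.one (Conj.refl x))
  exact h1.sim (CFull.of_sim hWb hbf) hWb

theorem AllR.succ (h2 : 2 ≤ Fintype.card ι) (hx : ¬IsSc x) (hxd : x.det ≠ 0) {r : Matrix ι ι F}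
    (h : InS x k r) (hr : RCl r) : AllR x (k + 1) :=
  AllR.of_cyc h2 hx hxd h hr.1 (hr.cfull (by rw [h.det]; exact pow_ne_zero _ hxd))

/-- Every non-scalar matrix from two classes. -/
theorem InS.nonscalar (h2 : 2 ≤ Fintype.card ι) (hxd : x.det ≠ 0) {r y h : Matrix ι ι F}
    (hr' : InS x k r) (hr : RCl r) (hy' : InS x l y) (hy : Cyc y) (hyf : CFull y) (hh : ¬IsSc h)
    (hd : h.det = x.det ^ (k + l)) : InS x (k + l) h := by
  have hrd : r.det ≠ 0 := by rw [hr'.det]; exact pow_ne_zero _ hxd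
  have hhd : h.det ≠ 0 := by rw [hd]; exact pow_ne_zero _ hxd
  have hr1 := Matrix.mul_nonsing_inv r hrd.isUnit
  obtain ⟨P, W, hW, hP, hWy⟩ := two_classes h2 hh hhd (hr.inv hr1)
    (by rw [det_nonsing_inv, Ring.inverse_eq_inv']; exact inv_ne_zero hrd) hy (by
      rw [det_nonsing_inv, Ring.inverse_eq_inv', hy'.det, hr'.det, hd, pow_add, ← mul_assoc,
        inv_mul_cancel₀ (pow_ne_zero _ hxd), one_mul])
  have hPd : P.det ≠ 0 := by
    rw [hP.det_eq, det_nonsing_inv, Ring.inverse_eq_inv']; exact inv_ne_zero hrd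
  have hPs : Sim P⁻¹ r := sim_inv hP (Matrix.mul_nonsing_inv _ hPd.isUnit) (mul_eq_one_comm.1 hr1)
  rw [mul_inv_of_mul hPd hW]
  exact (hr'.sim (hr.cfull hrd) hPs.symm).mul (hy'.sim hyf hWy.symm)

/-- A conjugate not proportional to the given matrix. -/
theorem exists_conj_not_smul (h3 : 3 ≤ Fintype.card ι) (hx : ¬IsSc x) :
    ∃ z, Conj x z ∧ ∀ c : F, z ≠ c • x := by
  obtain ⟨v, hv⟩ := exists_indep hx
  obtain ⟨w, hw⟩ := exists_notMem_pair h3 v (x *ᵥ v)
  have hv0 : v ≠ 0 := hv.ne_zero 0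
  have hvw : LinearIndependent F ![v, w] := by
    rw [LinearIndependent.pair_iff' hv0]
    intro a ha
    exact hw (ha ▸ Submodule.smul_mem _ _ (Submodule.subset_span (by simp)))
  obtain ⟨g, hg, hgv, hgw⟩ := exists_sl_pair h3 hv hvw
  have hu : IsUnit g.det := by rw [hg]; exact isUnit_one
  refine ⟨g * x * g⁻¹, conj_mk (Matrix.nonsing_inv_mul _ hu) hg, fun c hc => hw ?_⟩
  have h1 : g⁻¹ *ᵥ v = v := by
    conv_lhs => rw [← hgv]
    rw [Matrix.mulVec_mulVec, Matrix.nonsing_inv_mul _ hu, Matrix.one_mulVec]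
  have := congrArg (· *ᵥ v) hc
  simp only [← Matrix.mulVec_mulVec, h1, hgw, Matrix.smul_mulVec] at this
  rw [this]
  exact Submodule.smul_mem _ _ (Submodule.subset_span (by simp))

/-- The classes covered by `k` factors are covered by `k + 1`. -/
theorem cover_succ (h3 : 3 ≤ Fintype.card ι) (hx : ¬IsSc x) (hxd : x.det ≠ 0)
    (hk : ∀ h : Matrix ι ι F, ¬IsSc h → h.det = x.det ^ k → InS x k h) :
    ∀ h : Matrix ι ι F, ¬IsSc h → h.det = x.det ^ (k + 1) → InS x (k + 1) h := by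
  intro h hh hd
  obtain ⟨z, hz, hz'⟩ := exists_conj_not_smul h3 hx
  obtain ⟨w, hw, hws⟩ : ∃ w, Conj x w ∧ ¬IsSc (w⁻¹ * h) := by
    by_contra hall
    push Not at hall
    have e : ∀ w, Conj x w → ∃ c : F, h = c • w := fun w hw => by
      obtain ⟨c, hc⟩ := hall w hw
      have hwd : w.det ≠ 0 := hw.toG.det_eq ▸ hxd
      refine ⟨c, ?_⟩
      have := congrArg (w * ·) hc
      rwa [← Matrix.mul_assoc, Matrix.mul_nonsing_inv _ hwd.isUnit, Matrix.one_mul, Matrix.mul_smul,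
        Matrix.mul_one] at this
    obtain ⟨c, hc⟩ := e x (Conj.refl x)
    obtain ⟨d, hd'⟩ := e z hz
    have hd0 : d ≠ 0 := fun h0 => hh ⟨0, by rw [hd', h0, zero_smul, zero_smul]⟩
    refine hz' (d⁻¹ * c) ?_
    rw [mul_smul, ← hc, hd', smul_smul, inv_mul_cancel₀ hd0, one_smul]
  have hwd : w.det ≠ 0 := hw.toG.det_eq ▸ hxd
  have h1 := (InS.one hw).mul (hk _ hws (by
    rw [det_mul, det_nonsing_inv, Ring.inverse_eq_inv', hd, ← hw.toG.det_eq, pow_succ',
      ← mul_assoc, inv_mul_cancel₀ hxd, one_mul]))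
  rwa [← Matrix.mul_assoc, Matrix.mul_nonsing_inv _ hwd.isUnit, Matrix.one_mul, Nat.add_comm] at h1

end Cfsg.Agent.Linear.Lev
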